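import Groth.Agent.Pi1PS.RegPurity
import Groth.Agent.S2039
import Groth.Agent.S9317
import Groth.Agent.SmoothingLib.GeomRegDiff

/-!
# Purity for formally smooth local homomorphisms over a base of depth two
-/

set_option autoImplicit false
set_option linter.style.haveILetI false
set_option backward.isDefEq.respectTransparency false
set_option backward.isDefEq.respectTransparency.types false
universe u

open CategoryTheory CategoryTheory.Limits AlgebraicGeometry IsLocalRing TensorProduct

noncomputable section

namespace Groth.Agent.Pi1PS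

open Groth.Agent

/-- The map on completions. -/
theorem exists_cpl_hom {R S : Type u} [CommRing R] [CommRing S] [Algebra R S] (m : Ideal R) (n : Ideal S)
    (h : m.map (algebraMap R S) ≤ n) :
    ∃ ψ : AdicCompletion m R →+* AdicCompletion n S,
      ψ.comp (algebraMap R (AdicCompletion m R)) =
        (algebraMap S (AdicCompletion n S)).comp (algebraMap R S) := by
  have hle : ∀ k, m ^ k ≤ (n ^ k).comap (algebraMap R S) := fun k => by
    rw [← Ideal.map_le_iff_le_comap, Ideal.map_pow]
    exact Ideal.pow_right_mono h k
  let f : (k : ℕ) → AdicCompletion m R →+* S ⧸ n ^ k := fun k =>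
    (Ideal.quotientMap (n ^ k) (algebraMap R S) (hle k)).comp (AdicCompletion.evalₐ m k).toRingHom
  have hf : ∀ {a b : ℕ} (hab : a ≤ b), (Ideal.Quotient.factorPow n hab).comp (f b) = f a := fun {a b} hab => by
    refine RingHom.ext fun x => ?_
    obtain ⟨z, rfl⟩ := AdicCompletion.mk_surjective m R x
    simp only [f, RingHom.comp_apply, AlgHom.toRingHom_eq_coe, RingHom.coe_coe]
    rw [AdicCompletion.evalₐ_mk, AdicCompletion.evalₐ_mk, Ideal.quotientMap_mk, Ideal.quotientMap_mk,
      Ideal.Quotient.factor_mk, Ideal.Quotient.eq, ← map_sub]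
    refine hle a ?_
    have h1 := z.2 hab
    rw [SModEq.sub_mem, Ideal.smul_eq_mul, Ideal.mul_top] at h1
    rw [← neg_sub]
    exact (m ^ a).neg_mem h1
  refine ⟨AdicCompletion.liftRingHom n f hf, RingHom.ext fun x => AdicCompletion.ext_evalₐ fun k => ?_⟩
  rw [RingHom.comp_apply, RingHom.comp_apply, AdicCompletion.evalₐ_liftRingHom]
  simp [f]

variable {A : Type u} [CommRing A] [IsLocalRing A] [IsNoetherianRing A]

/-- Purity for a formally smooth local homomorphism over a base of depth at least two. -/
theorem purityHolds_of_adicFormallySmooth (hA : (2 : ℕ∞) ≤ LocCoh.depth A A) (B : Type u) [CommRing B] [IsLocalRing B]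
    [IsNoetherianRing B] [Algebra A B] [IsLocalHom (algebraMap A B)]
    (hfs : CAlgX.IsAdicFormallySmooth A B (maximalIdeal B))
    (hne : (maximalIdeal A).map (algebraMap A B) ≠ maximalIdeal B) : FEt.PurityHolds B := by
  haveI := ((S2038.result (A := A) (B := B)).2 hfs).1
  let A' := AdicCompletion (maximalIdeal A) A
  let C := AdicCompletion (maximalIdeal B) B
  haveI : IsNoetherianRing A' := LC.Canon.isNoetherianRing_completion
  haveI : Module.FaithfullyFlat A A' := LC.Canon.faithfullyFlat_completion
  haveI : IsNoetherianRing C := LC.Canon.isNoetherianRing_completion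
  haveI : Module.FaithfullyFlat B C := LC.Canon.faithfullyFlat_completion
  have hmA : (maximalIdeal A).map (algebraMap A A') = maximalIdeal A' :=
    (AdicCompletion.maximalIdeal_eq_map_of_fg (IsNoetherian.noetherian (maximalIdeal A))).symm
  have hmB : (maximalIdeal B).map (algebraMap B C) = maximalIdeal C :=
    (AdicCompletion.maximalIdeal_eq_map_of_fg (IsNoetherian.noetherian (maximalIdeal B))).symm
  have hAB : (maximalIdeal A).map (algebraMap A B) ≤ maximalIdeal B :=
    ((local_hom_TFAE (algebraMap A B)).out 0 2).1 ‹IsLocalHom (algebraMap A B)›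
  obtain ⟨ψ, hψ⟩ := exists_cpl_hom (maximalIdeal A) (maximalIdeal B) hAB
  letI : Algebra A' C := ψ.toAlgebra
  have hmAC : (maximalIdeal A').map (algebraMap A' C) = ((maximalIdeal A).map (algebraMap A B)).map (algebraMap B C) := by
    rw [← hmA, Ideal.map_map, Ideal.map_map]
    exact congrArg (fun φ => (maximalIdeal A).map φ) hψ
  haveI : IsLocalHom (algebraMap A' C) :=
    ((local_hom_TFAE (algebraMap A' C)).out 2 0).1 (hmAC.le.trans ((Ideal.map_mono hAB).trans hmB.le))
  have hfsC : CAlgX.IsAdicFormallySmooth A' C (maximalIdeal C) := by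
    rw [← hmB]
    exact (S9317.result (maximalIdeal A) (maximalIdeal B) (IsNoetherian.noetherian _) (IsNoetherian.noetherian _)
      ⟨1, by rwa [pow_one]⟩ ψ hψ).1 hfs
  refine Pi1Alg.purityHolds_of_flat (two_le_depth_of_flat hA B) hmB.le (hmB.ge.trans Ideal.le_radical)
    (purityHolds_of_regularHom (two_le_depth_of_flat hA A') C (S2039.result.2 hfsC) fun h => hne ?_)
  rw [hmAC, ← hmB] at h
  have h1 := congrArg (Ideal.comap (algebraMap B C)) h
  rwa [Ideal.comap_map_eq_self_of_faithfullyFlat, Ideal.comap_map_eq_self_of_faithfullyFlat] at h1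

/-- Formal smoothness passes to the localizations at primes over the closed point. -/
theorem isAdicFormallySmooth_localization {B : Type u} [CommRing B] [IsLocalRing B]
    [IsNoetherianRing B] [Algebra A B] [IsLocalHom (algebraMap A B)]
    (hfs : CAlgX.IsAdicFormallySmooth A B (maximalIdeal B)) (q : Ideal B) [q.IsPrime]
    [IsLocalHom (algebraMap A (Localization.AtPrime q))] :
    CAlgX.IsAdicFormallySmooth A (Localization.AtPrime q) (maximalIdeal (Localization.AtPrime q)) := by
  obtain ⟨hflat, hgeo⟩ := (S2038.result (A := A) (B := B)).2 hfs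
  haveI := hflat
  haveI : Module.Flat A (Localization.AtPrime q) := Module.Flat.trans A B _
  refine (S2038.result (A := A) (B := Localization.AtPrime q)).1 ⟨inferInstance, ?_⟩
  let κ := (maximalIdeal A).ResidueField
  let T := (maximalIdeal A).Fiber B
  let T' := (maximalIdeal A).Fiber (Localization.AtPrime q)
  letI : Algebra T T' := (Algebra.TensorProduct.map (AlgHom.id κ κ)
    (IsScalarTower.toAlgHom A B (Localization.AtPrime q))).toRingHom.toAlgebra
  haveI : IsScalarTower κ T T' := IsScalarTower.of_algebraMap_eq fun c => by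
    show _ = Algebra.TensorProduct.map (AlgHom.id κ κ) (IsScalarTower.toAlgHom A B (Localization.AtPrime q)) (c ⊗ₜ 1)
    simp
  haveI := IsLocalization.tensorProduct_tensorProduct_right (A := B) A κ q.primeCompl (Localization.AtPrime q)
    (RingHom.ext fun x => by
      show Algebra.TensorProduct.map (AlgHom.id κ κ) (IsScalarTower.toAlgHom A B (Localization.AtPrime q)) (1 ⊗ₜ x) = _
      simp)
  exact SmoothingLib.GeomDiff.isGeometricallyRegular_of_isLocalization hgeo
    (q.primeCompl.map (Algebra.TensorProduct.includeRight (R := A) (A := κ))) T'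

/-- Restriction to an open of the spectrum of a formally smooth local algebra. -/
theorem isEquivalence_restrict_of_adicFormallySmooth (hA : (2 : ℕ∞) ≤ LocCoh.depth A A) (B : Type u) [CommRing B]
    [IsLocalRing B] [IsNoetherianRing B] [Algebra A B] [IsLocalHom (algebraMap A B)]
    (hfs : CAlgX.IsAdicFormallySmooth A B (maximalIdeal B)) (V : (Spec (CommRingCat.of B)).Opens)
    (hV1 : ∀ q : PrimeSpectrum B, q.asIdeal.comap (algebraMap A B) ≠ maximalIdeal A → q ∈ V)
    (hV2 : ∀ q : PrimeSpectrum B, q.asIdeal = (maximalIdeal A).map (algebraMap A B) → q ∈ V) :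
    (FEt.restrict V.ι).IsEquivalence := by
  have key : ∀ x : Spec (CommRingCat.of B), x ∉ V →
      (2 : ℕ∞) ≤ LocCoh.depth ((Spec (CommRingCat.of B)).presheaf.stalk x) ((Spec (CommRingCat.of B)).presheaf.stalk x) ∧
      FEt.PurityHolds ((Spec (CommRingCat.of B)).presheaf.stalk x) := fun x hx => by
    let S := (Spec (CommRingCat.of B)).presheaf.stalk x
    let q : Ideal B := (x : PrimeSpectrum B).asIdeal
    letI : Algebra B S := (StructureSheaf.toStalk B _).hom.toAlgebra
    haveI : IsLocalization.AtPrime S q := StructureSheaf.IsLocalization.to_stalk B _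
    let Bq := Localization.AtPrime q
    let σ : Bq ≃+* S := (IsLocalization.algEquiv q.primeCompl Bq S).toRingEquiv
    have hqA : q.comap (algebraMap A B) = maximalIdeal A := by
      by_contra hn; exact hx (hV1 x hn)
    haveI : IsLocalHom (algebraMap A Bq) := ((local_hom_TFAE (algebraMap A Bq)).out 4 0).1 (by
      rw [IsScalarTower.algebraMap_eq A B Bq, ← Ideal.comap_comap,
        show (maximalIdeal Bq).comap (algebraMap B Bq) = q from Localization.AtPrime.comap_maximalIdeal, hqA])
    haveI : Module.Flat A B := ((S2038.result (A := A) (B := B)).2 hfs).1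
    haveI : Module.Flat A Bq := Module.Flat.trans A B Bq
    have hd : (2 : ℕ∞) ≤ LocCoh.depth S S := (two_le_depth_of_flat hA Bq).trans
      (Alg6.depth_eq_of_semilinear σ.toRingHom σ.surjective σ.toAddEquiv fun r z => map_mul σ r z).le
    refine ⟨hd, Pi1Alg.purityHolds_of_ringEquiv σ (purityHolds_of_adicFormallySmooth hA Bq
      (isAdicFormallySmooth_localization hfs q) fun h => hx (hV2 x ?_))⟩
    show q = _
    haveI hP := isPrime_map_maximalIdeal ((S2038.result (A := A) (B := B)).2 hfs).2
    have hdisj : Disjoint (q.primeCompl : Set B) ((maximalIdeal A).map (algebraMap A B) : Set B) :=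
      Set.disjoint_left.2 fun z hz hzP => hz (Ideal.map_le_iff_le_comap.2 hqA.ge hzP)
    rw [← IsLocalization.comap_map_of_isPrime_disjoint q.primeCompl Bq hP hdisj, Ideal.map_map,
      ← IsScalarTower.algebraMap_eq A B Bq, h]
    exact Localization.AtPrime.comap_maximalIdeal.symm
  have hd := fun x hx => (key x hx).1
  obtain ⟨hF, hFa⟩ := Pi1X.restrict_open_full_faithful V (dense_of_depth V hd) hd
  haveI := hF; haveI := hFa
  haveI := essSurj_of_purity V hd fun x hx => (key x hx).2
  exact {}

end Groth.Agent.Pi1PS

end
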