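import Groth.Agent.Pi1PS.LiftOne
import Groth.Agent.Pi1Rig.PureBase
import Groth.Agent.Pi1X.FEtGlobal
import Groth.Agent.LC.DepthLoc
import Groth.Agent.LC.AdjDepth
import Groth.Agent.LC.ExtDim
import Groth.Agent.Alg6.LocLoc

/-!
# Full faithfulness of restriction to the divisor of an open, by depth
-/

set_option autoImplicit false
set_option linter.style.haveILetI false
set_option backward.isDefEq.respectTransparency false
set_option backward.isDefEq.respectTransparency.types false
universe u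

open CategoryTheory CategoryTheory.Limits AlgebraicGeometry IsLocalRing TopologicalSpace

noncomputable section

namespace Groth.Agent.Pi1PS

open Groth.Agent

variable {B : Type u} [CommRing B] [IsNoetherianRing B]

theorem depth_localized_self (p : Ideal B) [p.IsPrime] :
    LocCoh.depth (Localization.AtPrime p) (LocalizedModule p.primeCompl B) =
      LocCoh.depth (Localization.AtPrime p) (Localization.AtPrime p) := by
  let l : Localization.AtPrime p ≃ₗ[Localization.AtPrime p] LocalizedModule p.primeCompl B :=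
    (IsLocalizedModule.linearEquiv p.primeCompl (Algebra.linearMap B (Localization.AtPrime p))
      (LocalizedModule.mkLinearMap p.primeCompl B)).extendScalarsOfIsLocalization p.primeCompl _
  exact Alg6.depth_eq_of_semilinear (RingHom.id _) Function.surjective_id l.symm.toAddEquiv
    fun r x => map_smul l.symm r x

variable [IsLocalRing B]

/-- The depth at a prime is at least the depth minus the dimension of its closure. -/
theorem le_depth_atPrime (p : Ideal B) [p.IsPrime] {a d : ℕ} (h : ((a + d : ℕ) : ℕ∞) ≤ LocCoh.depth B B)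
    (hd : ringKrullDim (B ⧸ p) ≤ d) :
    (a : ℕ∞) ≤ LocCoh.depth (Localization.AtPrime p) (Localization.AtPrime p) := by
  let m := maximalIdeal B
  have h1 := LC.idealDepth_le_depth_localized m B m le_rfl
  have h2 := LC.depth_localized_le_add_height (M := B) p m (le_maximalIdeal Ideal.IsPrime.ne_top')
  have h3 : (m.map (Ideal.Quotient.mk p)).height ≤ (d : ℕ∞) := by
    haveI : (m.map (Ideal.Quotient.mk p)).IsPrime := Ideal.map_isPrime_of_surjective Ideal.Quotient.mk_surjective
      (by rw [Ideal.mk_ker]; exact le_maximalIdeal Ideal.IsPrime.ne_top')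
    exact WithBot.coe_le_coe.1 ((Ideal.height_le_ringKrullDim_of_ne_top Ideal.IsPrime.ne_top').trans hd)
  rw [depth_localized_self] at h2
  have h4 : ((a + d : ℕ) : ℕ∞) ≤ LocCoh.depth (Localization.AtPrime p) (Localization.AtPrime p) + (d : ℕ∞) :=
    h.trans (h1.trans (h2.trans (add_le_add le_rfl h3)))
  push_cast at h4
  exact (ENat.add_le_add_iff_right (ENat.natCast_ne_top d)).1 h4

theorem finite_H_of_depth {f : B} (hnz : f ∈ nonZeroDivisors B) (I : Ideal B) (hfI : f ∈ I)
    (h : ∀ P : PrimeSpectrum B, I ≤ P.asIdeal → (3 : ℕ∞) ≤ LocCoh.depth (Localization.AtPrime P.asIdeal) (Localization.AtPrime P.asIdeal)) :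
    Module.Finite B (LocCoh.H I 1 (B ⧸ Ideal.span {f})) := by
  have hreg : IsSMulRegular B f := fun a b hab => (mul_cancel_left_mem_nonZeroDivisors hnz).1 hab
  let e : QuotSMulTop f B ≃ₗ[B] B ⧸ Ideal.span {f} := Submodule.quotEquivOfEq _ _ (by
    rw [← Submodule.ideal_span_singleton_smul, Ideal.smul_eq_mul, Ideal.mul_top])
  have hd : ((2 : ℕ) : ℕ∞) ≤ LocCoh.idealDepth I (B ⧸ Ideal.span {f}) := by
    rw [LC.idealDepth_eq_iInf_depth]
    refine le_iInf₂ fun P hP => ?_
    have h3 := h P hP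
    rw [← depth_localized_self, ← LC.depth_localized_quot_add_one (M := B) P.asIdeal (hP hfI) hreg] at h3
    have h2 : ((2 : ℕ) : ℕ∞) ≤ LocCoh.depth (Localization.AtPrime P.asIdeal) (LocalizedModule P.asIdeal.primeCompl (QuotSMulTop f B)) := by
      refine (ENat.add_le_add_iff_right (k := 1) (by simp)).1 ?_
      exact le_trans (le_of_eq (by norm_num)) h3
    exact h2.trans (le_of_eq (LC.depth_localized_congr (M := QuotSMulTop f B) (N := B ⧸ Ideal.span {f}) P.asIdeal (IsLocalizedModule.mapEquiv P.asIdeal.primeCompl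
      (LocalizedModule.mkLinearMap P.asIdeal.primeCompl (QuotSMulTop f B))
      (LocalizedModule.mkLinearMap P.asIdeal.primeCompl (B ⧸ Ideal.span {f}))
      (Localization.AtPrime P.asIdeal) e)))
  haveI : Subsingleton (LocCoh.H I 1 (B ⧸ Ideal.span {f})) :=
    (LC.le_idealDepth_iff_H I (B ⧸ Ideal.span {f}) 2).1 hd 1 (by norm_num)
  infer_instance

theorem canLift_of_depth {f : B} [IsAdicComplete (Ideal.span {f}) B] (hnz : f ∈ nonZeroDivisors B)
    {U : (Spec (CommRingCat.of B)).Opens} {X : Scheme.{u}}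
    (i : X ⟶ (U : Scheme.{u})) [IsClosedImmersion i]
    (hi : Set.range i = {x | f ∈ (U.ι x : PrimeSpectrum B).asIdeal})
    (h : ∀ P : PrimeSpectrum B, f ∈ P.asIdeal → (P : ↥(Spec (CommRingCat.of B))) ∉ U →
      (3 : ℕ∞) ≤ LocCoh.depth (Localization.AtPrime P.asIdeal) (Localization.AtPrime P.asIdeal)) :
    Pi1Rig.CanLift f i := fun W S₀ hS₀ => by
  refine Pi1Rig.lift_one' (f := f) hnz (fun {r} g hg => ?_) i hi W hS₀
  refine finite_H_of_depth hnz _ (Ideal.subset_span ⟨none, rfl⟩) fun P hP => h P (hP (Ideal.subset_span ⟨none, rfl⟩)) fun hPU => ?_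
  obtain ⟨j, hj⟩ := (hg P).1 hPU
  exact hj (hP (Ideal.subset_span ⟨some j, rfl⟩))

/-- Restriction to an open inside an open, in depth two. -/
theorem ff_homOfLE {U U₂ : (Spec (CommRingCat.of B)).Opens} (hle : U₂ ≤ U)
    (h : ∀ p : PrimeSpectrum B, (p : ↥(Spec (CommRingCat.of B))) ∈ U → (p : ↥(Spec (CommRingCat.of B))) ∉ U₂ →
      (2 : ℕ∞) ≤ LocCoh.depth (Localization.AtPrime p.asIdeal) (Localization.AtPrime p.asIdeal)) :
    (FEt.restrict ((Spec (CommRingCat.of B)).homOfLE hle)).Full ∧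
      (FEt.restrict ((Spec (CommRingCat.of B)).homOfLE hle)).Faithful := by
  let S := Spec (CommRingCat.of B)
  haveI : NoetherianSpace ↥S := inferInstanceAs (NoetherianSpace (PrimeSpectrum B))
  haveI : CompactSpace (U : Scheme.{u}) := isCompact_iff_compactSpace.1 (NoetherianSpace.isCompact _)
  haveI : IsNoetherian (U : Scheme.{u}) := {}
  let W : (U : Scheme.{u}).Opens := U.ι ⁻¹ᵁ U₂
  have hdepth : ∀ x : (U : Scheme.{u}), x ∉ W →
      (2 : ℕ∞) ≤ LocCoh.depth ((U : Scheme.{u}).presheaf.stalk x) ((U : Scheme.{u}).presheaf.stalk x) := fun x hx => by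
    let p : PrimeSpectrum B := U.ι x
    have h2 := h p x.2 hx
    letI : Algebra B (S.presheaf.stalk (U.ι x)) := (StructureSheaf.toStalk B _).hom.toAlgebra
    haveI : IsLocalization.AtPrime (S.presheaf.stalk (U.ι x)) p.asIdeal := StructureSheaf.IsLocalization.to_stalk B _
    let σ : S.presheaf.stalk (U.ι x) ≃+* (U : Scheme.{u}).presheaf.stalk x :=
      (asIso (U.ι.stalkMap x)).commRingCatIsoToRingEquiv
    let τ : Localization.AtPrime p.asIdeal ≃+* (U : Scheme.{u}).presheaf.stalk x :=
      (IsLocalization.algEquiv p.asIdeal.primeCompl (Localization.AtPrime p.asIdeal) (S.presheaf.stalk (U.ι x))).toRingEquiv.trans σ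
    exact h2.trans (Alg6.depth_eq_of_semilinear τ.toRingHom τ.surjective τ.toAddEquiv fun r z => map_mul τ r z).le
  have hdense : Dense (W : Set (U : Scheme.{u})) := fun x => by
    obtain ⟨q, hq, hqx⟩ := Ideal.exists_minimalPrimes_le (bot_le : ⊥ ≤ (U.ι x : PrimeSpectrum B).asIdeal)
    haveI := hq.1.1
    let η : PrimeSpectrum B := ⟨q, inferInstance⟩
    have hsp : (η : ↥S) ⤳ U.ι x := (PrimeSpectrum.le_iff_specializes η _).1 hqx
    have hηU : (η : ↥S) ∈ U := hsp.mem_open U.2 x.2
    have hη2 : (η : ↥S) ∈ U₂ := by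
      by_contra hn
      have h2 := h η hηU hn
      have hd := LC.depth_le_supportDim (R := Localization.AtPrime q) (Localization.AtPrime q)
      have h0 : ringKrullDim (Localization.AtPrime q) = 0 := by
        rw [IsLocalization.AtPrime.ringKrullDim_eq_height q (Localization.AtPrime q),
          Ideal.height_eq_zero_iff.2 hq]
        rfl
      rw [Module.supportDim_self_eq_ringKrullDim, h0] at hd
      have : (2 : ℕ∞) ≤ 0 := h2.trans (WithBot.coe_le_coe.1 hd)
      exact absurd this (by decide)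
    refine closure_mono (Set.singleton_subset_iff.2 (show (⟨η, hηU⟩ : (U : Scheme.{u})) ∈ W from hη2))
      (specializes_iff_mem_closure.1 ?_)
    exact U.ι.isOpenEmbedding.isEmbedding.specializes_iff.1 hsp
  obtain ⟨hF, hFa⟩ := Pi1X.restrict_open_full_faithful W hdense hdepth
  let m := S.homOfLE hle
  have hrange : Set.range m = Set.range W.ι := by
    rw [Scheme.Opens.range_ι]
    ext y
    constructor
    · rintro ⟨z, rfl⟩
      show ((S.homOfLE hle) z).1 ∈ U₂
      rw [Scheme.homOfLE_apply]; exact z.2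
    · exact fun hy => ⟨⟨y.1, hy⟩, Subtype.ext (Scheme.homOfLE_apply hle _)⟩
  let w := IsOpenImmersion.isoOfRangeEq m W.ι hrange
  haveI := Pi1Rig.isEquivalence_restrict_of_isIso w.hom
  let E := MorphismProperty.Over.pullbackComp (P := FEt.prop) (Q := ⊤) w.hom W.ι m
    (IsOpenImmersion.isoOfRangeEq_hom_fac _ _ _).symm
  haveI : (FEt.restrict w.hom).Full := inferInstance
  haveI : (FEt.restrict w.hom).Faithful := inferInstance
  haveI : (FEt.restrict W.ι ⋙ FEt.restrict w.hom).Full := inferInstance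
  haveI : (FEt.restrict W.ι ⋙ FEt.restrict w.hom).Faithful := inferInstance
  exact ⟨@Functor.Full.of_iso _ _ _ _ _ _ ‹(FEt.restrict W.ι ⋙ FEt.restrict w.hom).Full› E.symm,
    @Functor.Faithful.of_iso _ _ _ _ _ _ ‹(FEt.restrict W.ι ⋙ FEt.restrict w.hom).Faithful› E.symm⟩

/-- Restriction from an open of a complete local ring to its divisor is fully faithful under depth
hypotheses outside the open and away from the divisor. -/
theorem ff_step {f : B} [IsAdicComplete (Ideal.span {f}) B]
    (hnz : f ∈ nonZeroDivisors B) {U : (Spec (CommRingCat.of B)).Opens} {X : Scheme.{u}}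
    (i : X ⟶ (U : Scheme.{u})) [IsClosedImmersion i]
    (hi : Set.range i = {x | f ∈ (U.ι x : PrimeSpectrum B).asIdeal})
    (h3 : ∀ P : PrimeSpectrum B, f ∈ P.asIdeal → (P : ↥(Spec (CommRingCat.of B))) ∉ U →
      (3 : ℕ∞) ≤ LocCoh.depth (Localization.AtPrime P.asIdeal) (Localization.AtPrime P.asIdeal))
    (h2 : ∀ p : PrimeSpectrum B, (p : ↥(Spec (CommRingCat.of B))) ∈ U →
      (∀ q : PrimeSpectrum B, p.asIdeal ≤ q.asIdeal → f ∈ q.asIdeal → (q : ↥(Spec (CommRingCat.of B))) ∉ U) →
      (2 : ℕ∞) ≤ LocCoh.depth (Localization.AtPrime p.asIdeal) (Localization.AtPrime p.asIdeal)) :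
    (FEt.restrict i).Full ∧ (FEt.restrict i).Faithful := by
  have hone := canLift_of_depth hnz i hi h3
  have hnhd : ∀ {U₂ : (Spec (CommRingCat.of B)).Opens} (hle : U₂ ≤ U) (i₂ : X ⟶ (U₂ : Scheme.{u})),
      i₂ ≫ (Spec (CommRingCat.of B)).homOfLE hle = i →
      (FEt.restrict ((Spec (CommRingCat.of B)).homOfLE hle)).Full ∧
        (FEt.restrict ((Spec (CommRingCat.of B)).homOfLE hle)).Faithful := by
    intro U₂ hle i₂ hi₂
    refine ff_homOfLE hle fun p hp hp₂ => h2 p hp fun q hpq hfq hqU => hp₂ ?_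
    obtain ⟨z, hz⟩ : (⟨q, hqU⟩ : (U : Scheme.{u})) ∈ Set.range i := hi.ge hfq
    have hq₂ : (q : ↥(Spec (CommRingCat.of B))) ∈ U₂ := by
      have h0 : ((Spec (CommRingCat.of B)).homOfLE hle (i₂ z)).1 = q := by
        rw [← Scheme.Hom.comp_apply, hi₂, hz]
      rw [Scheme.homOfLE_apply] at h0
      exact h0 ▸ (i₂ z).2
    exact ((PrimeSpectrum.le_iff_specializes p q).1 hpq).mem_open U₂.2 hq₂
  constructor
  · refine ⟨fun {Y Z} φ₀ => ?_⟩
    obtain ⟨U₂, hle, i₂, hu, φ, hφ⟩ := (Pi1Rig.germ_fullyFaithful i hone hi Y Z).1 φ₀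
    haveI := (hnhd hle i₂ hu).1
    let E := MorphismProperty.Over.pullbackComp (P := FEt.prop) (Q := ⊤) i₂ ((Spec (CommRingCat.of B)).homOfLE hle) i hu.symm
    refine ⟨(FEt.restrict ((Spec (CommRingCat.of B)).homOfLE hle)).preimage φ, ?_⟩
    rw [← cancel_mono (E.hom.app Z)]
    refine (E.hom.naturality _).trans ?_
    show E.hom.app Y ≫ (FEt.restrict i₂).map ((FEt.restrict ((Spec (CommRingCat.of B)).homOfLE hle)).map _) = _
    rw [Functor.map_preimage, hφ, Iso.hom_inv_id_app_assoc]
  · refine ⟨fun {Y Z} φ ψ hφψ => ?_⟩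
    obtain ⟨U₂, hle, i₂, hu, h⟩ := (Pi1Rig.germ_fullyFaithful i hone hi Y Z).2 φ ψ hφψ
    haveI := (hnhd hle i₂ hu).2
    exact (FEt.restrict ((Spec (CommRingCat.of B)).homOfLE hle)).map_injective h

end Groth.Agent.Pi1PS

end
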