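import Groth.Agent.Pi1PS.Tower
import Groth.Agent.Pi1Alg.DescendFlat
import Groth.Agent.Pi1Alg.EssSurj
import Groth.Agent.CplFib6.PS
import Groth.Agent.S0261

/-!
# Purity for power series in one variable over a ring of depth two
-/

set_option autoImplicit false
set_option linter.style.haveILetI false
set_option backward.isDefEq.respectTransparency false
set_option backward.isDefEq.respectTransparency.types false
universe u

open CategoryTheory CategoryTheory.Limits AlgebraicGeometry IsLocalRing TopologicalSpace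

noncomputable section

namespace Groth.Agent.Pi1PS

open Groth.Agent

theorem flat_powerSeries (R : Type u) [CommRing R] [IsNoetherianRing R] : Module.Flat R (PowerSeries R) := by
  haveI := CplFib6.flat_mvPowerSeries R 1
  let e : (Unit →₀ ℕ) ≃ (Fin 1 →₀ ℕ) := (Finsupp.domCongr (Equiv.ofUnique Unit (Fin 1))).toEquiv
  let l : PowerSeries R ≃ₗ[R] MvPowerSeries (Fin 1) R := LinearEquiv.funCongrLeft R R e.symm
  exact Module.Flat.of_linearEquiv l

variable {R : Type u} [CommRing R] [IsLocalRing R] [IsNoetherianRing R]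

theorem eq_max_of_mem (y : Ideal (PowerSeries R)) [y.IsPrime] (hX : PowerSeries.X ∈ y)
    (hm : maximalIdeal R ≤ y.comap (PowerSeries.C (R := R))) : y = maximalIdeal (PowerSeries R) := by
  refine le_antisymm (le_maximalIdeal Ideal.IsPrime.ne_top') fun f hf => ?_
  have hc : PowerSeries.constantCoeff f ∈ maximalIdeal R := by
    rw [mem_maximalIdeal, mem_nonunits_iff] at hf ⊢
    rwa [← PowerSeries.isUnit_iff_constantCoeff]
  obtain ⟨g, hg⟩ : PowerSeries.X ∣ f - PowerSeries.C (PowerSeries.constantCoeff f) :=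
    PowerSeries.X_dvd_iff.2 (by simp)
  rw [sub_eq_iff_eq_add] at hg
  rw [hg]
  exact y.add_mem (y.mul_mem_right g hX) (hm hc)

theorem ker_map_residue :
    RingHom.ker (PowerSeries.map (residue R)) = (maximalIdeal R).map (algebraMap R (PowerSeries R)) := by
  refine le_antisymm (fun f hf => ?_) ?_
  · obtain ⟨s, hs⟩ := (IsNoetherian.noetherian (maximalIdeal R) : (maximalIdeal R).FG)
    have hc : ∀ n, ∃ a : R → R, ∑ x ∈ s, a x * x = PowerSeries.coeff n f := fun n => by
      have h1 : PowerSeries.coeff n f ∈ maximalIdeal R := by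
        have h2 := congrArg (PowerSeries.coeff n) (RingHom.mem_ker.1 hf)
        rw [PowerSeries.coeff_map, map_zero] at h2
        exact (residue_eq_zero_iff _).1 h2
      rw [← hs] at h1
      obtain ⟨a, -, ha⟩ := Submodule.mem_span_finset.1 h1
      exact ⟨a, ha⟩
    choose a ha using hc
    have : f = ∑ x ∈ s, PowerSeries.mk (fun n => a n x) * algebraMap R (PowerSeries R) x := PowerSeries.ext fun n => by
      rw [map_sum, ← ha n]
      refine Finset.sum_congr rfl fun x _ => ?_
      rw [PowerSeries.algebraMap_eq, PowerSeries.coeff_mul_C, PowerSeries.coeff_mk]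
    rw [this]
    exact Ideal.sum_mem _ fun x hx => Ideal.mul_mem_left _ _ (Ideal.mem_map_of_mem _ (hs ▸ Ideal.subset_span hx))
  · refine Ideal.map_le_iff_le_comap.2 fun r hr => ?_
    rw [Ideal.mem_comap, RingHom.mem_ker, PowerSeries.algebraMap_eq, PowerSeries.map_C, (residue_eq_zero_iff r).2 hr, map_zero]

/-- Purity for power series in one variable in depth two. -/
theorem purityHolds_powerSeries (hR : (2 : ℕ∞) ≤ LocCoh.depth R R) : FEt.PurityHolds (PowerSeries R) := by
  refine ⟨fun V => ?_⟩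
  let B := PowerSeries R
  let σ : R →+* B := algebraMap R B
  let q : B →+* R := PowerSeries.constantCoeff
  have hσ : ∀ r, σ r = PowerSeries.C r := fun r => by rw [show σ = algebraMap R B from rfl, PowerSeries.algebraMap_eq]
  have hqσ : q.comp σ = RingHom.id R := RingHom.ext fun r => by
    show PowerSeries.constantCoeff (σ r) = r
    rw [hσ, PowerSeries.constantCoeff_C]
  haveI hσl : IsLocalHom σ := ⟨fun r hr => by
    have h := hr.map q
    rwa [show q (σ r) = r from RingHom.congr_fun hqσ r] at h⟩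
  have hqs : Function.Surjective q := fun r => ⟨σ r, RingHom.congr_fun hqσ r⟩
  haveI := IsLocalHom.of_surjective q hqs
  have hX : (PowerSeries.X : B) ∈ maximalIdeal B := by
    rw [mem_maximalIdeal, mem_nonunits_iff, PowerSeries.isUnit_iff_constantCoeff]; simp
  have hnz : (PowerSeries.X : B) ∈ nonZeroDivisors B := mem_nonZeroDivisors_iff_right.2 fun x hx =>
    PowerSeries.X_mul_cancel (by rw [mul_zero, mul_comm]; exact hx)
  haveI : IsAdicComplete (Ideal.span {(PowerSeries.X : B)}) B := isAdicComplete_X R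
  have hkq : RingHom.ker q = Ideal.span {(PowerSeries.X : B)} := by
    ext f
    rw [RingHom.mem_ker, Ideal.mem_span_singleton]
    exact PowerSeries.X_dvd_iff.symm
  have hdB : ((3 : ℕ) : ℕ∞) ≤ LocCoh.depth B B := succ_le_depth q hqs hkq hX hnz (k := 2) (by exact_mod_cast hR)
  -- the schemes
  let pR := FEt.puncturedSpec R
  let pB := FEt.puncturedSpec B
  let π := Spec.map (CommRingCat.ofHom σ)
  let ι₀ := Spec.map (CommRingCat.ofHom q)
  let U : (Spec (CommRingCat.of B)).Opens := π ⁻¹ᵁ pR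
  have hU : ∀ y : PrimeSpectrum B, (y : ↥(Spec (CommRingCat.of B))) ∈ U ↔ y.asIdeal.comap σ ≠ maximalIdeal R := fun y => by
    show (y.comap σ : PrimeSpectrum R) ∈ ({closedPoint R}ᶜ : Set (PrimeSpectrum R)) ↔ _
    rw [Set.mem_compl_singleton_iff]
    exact not_congr ⟨fun h => congrArg PrimeSpectrum.asIdeal h, fun h => PrimeSpectrum.ext h⟩
  have hXU : ∀ y : PrimeSpectrum B, (PowerSeries.X : B) ∈ y.asIdeal → (y : ↥(Spec (CommRingCat.of B))) ∉ U →
      y.asIdeal = maximalIdeal B := fun y hXy hy => eq_max_of_mem y.asIdeal hXy (by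
    rw [← PowerSeries.algebraMap_eq]
    exact (not_not.1 (mt (hU y).2 hy)).ge)
  have hUB : U ≤ pB := fun y hy => by
    show y ∈ ({closedPoint B}ᶜ : Set (PrimeSpectrum B))
    rw [Set.mem_compl_singleton_iff]
    rintro rfl
    exact (hU _).1 hy ((IsLocalRing.local_hom_TFAE σ).out 0 4 |>.1 hσl)
  have hπι : ι₀ ≫ π = 𝟙 _ := by
    rw [← Spec.map_comp, ← CommRingCat.ofHom_comp, hqσ]; exact Spec.map_id _
  have hr₀ : Set.range (pR.ι ≫ ι₀) ⊆ Set.range U.ι := by
    rw [Scheme.Opens.range_ι]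
    rintro _ ⟨z, rfl⟩
    show π ((pR.ι ≫ ι₀) z) ∈ pR
    rw [← Scheme.Hom.comp_apply, Category.assoc, hπι, Category.comp_id]
    exact z.2
  let i : (pR : Scheme.{u}) ⟶ (U : Scheme.{u}) := IsOpenImmersion.lift U.ι (pR.ι ≫ ι₀) hr₀
  have hi : i ≫ U.ι = pR.ι ≫ ι₀ := IsOpenImmersion.lift_fac _ _ _
  let π' : (U : Scheme.{u}) ⟶ (pR : Scheme.{u}) := π ∣_ pR
  have hπ' : π' ≫ pR.ι = U.ι ≫ π := morphismRestrict_ι π pR
  have hiπ : i ≫ π' = 𝟙 _ := by
    rw [← cancel_mono pR.ι, Category.assoc, hπ', reassoc_of% hi, hπι, Category.comp_id, Category.id_comp]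
  haveI : IsClosedImmersion ι₀ := IsClosedImmersion.spec_of_surjective _ hqs
  haveI : IsSeparated π := inferInstance
  haveI : IsClosedImmersion (i ≫ π') := by rw [hiπ]; infer_instance
  haveI : IsClosedImmersion i := IsClosedImmersion.of_comp i π'
  have hrι : Set.range ι₀ = PrimeSpectrum.zeroLocus ({(PowerSeries.X : B)} : Set B) := by
    show Set.range (PrimeSpectrum.comap q) = _
    rw [range_comap_of_surjective _ q hqs, hkq, PrimeSpectrum.zeroLocus_span]
  have hri : Set.range i = {x | (PowerSeries.X : B) ∈ (U.ι x : PrimeSpectrum B).asIdeal} := by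
    ext x
    constructor
    · rintro ⟨z, rfl⟩
      have h1 : U.ι (i z) ∈ Set.range ι₀ := ⟨pR.ι z, by rw [← Scheme.Hom.comp_apply, ← Scheme.Hom.comp_apply, hi]⟩
      exact hrι.le h1 rfl
    · intro hx
      obtain ⟨z, hz⟩ : U.ι x ∈ Set.range ι₀ := hrι.ge (fun y hy => hy ▸ hx)
      have hzR : z ∈ pR := by
        have h2 : π (ι₀ z) ∈ pR := by rw [hz]; exact x.2
        rwa [← Scheme.Hom.comp_apply, hπι] at h2
      exact ⟨⟨z, hzR⟩, U.ι.isOpenEmbedding.injective (by
        rw [← Scheme.Hom.comp_apply, hi, Scheme.Hom.comp_apply]; exact hz)⟩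
  obtain ⟨hF, hFa⟩ := ff_step hnz i hri (fun P hXP hPU => by
      refine le_depth_atPrime P.asIdeal (a := 3) (d := 0) hdB ?_
      refine dim_le_of_gens P ∅ (Set.empty_subset _) (by simp) fun Q hPQ _ => ?_
      exact le_antisymm (le_maximalIdeal Ideal.IsPrime.ne_top') ((hXU P hXP hPU).ge.trans hPQ))
    (fun p _ hp => by
      refine le_depth_atPrime p.asIdeal (a := 2) (d := 1) (by exact_mod_cast hdB) ?_
      refine dim_le_of_gens p {(PowerSeries.X : B)} (Set.singleton_subset_iff.2 hX) (by simp) fun Q hpQ hQ => ?_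
      exact hXU Q (hQ rfl) (hp Q hpQ (hQ rfl)))
  haveI := hF; haveI := hFa
  -- the cover on the punctured spectrum of the base
  let u : (U : Scheme.{u}) ⟶ (pB : Scheme.{u}) := (Spec (CommRingCat.of B)).homOfLE hUB
  have hu : u ≫ pB.ι = U.ι := Scheme.homOfLE_ι _ _
  let V0 := (FEt.restrict (i ≫ u)).obj V
  let eU : (FEt.restrict u).obj V ≅ (FEt.restrict π').obj V0 := (FEt.restrict i).preimageIso
    (Pi1Alg.restrictComp i u _ rfl V ≪≫ (Pi1Alg.restrictId V0).symm ≪≫ (Pi1Alg.restrictComp i π' _ hiπ V0).symm)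
  -- the generic point of the special fibre
  haveI : IsDomain (PowerSeries (ResidueField R)) := inferInstance
  let p1 : Ideal B := RingHom.ker (PowerSeries.map (residue R))
  haveI : p1.IsPrime := RingHom.ker_isPrime _
  have hp1X : (PowerSeries.X : B) ∉ p1 := fun h => PowerSeries.X_ne_zero (R := ResidueField R)
    ((PowerSeries.map_X (residue R)).symm.trans (RingHom.mem_ker.1 h))
  let L := Localization.AtPrime p1
  haveI := flat_powerSeries R
  haveI : Module.Flat R L := Module.Flat.trans R B L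
  have hmL : (maximalIdeal R).map (algebraMap R L) = maximalIdeal L := by
    rw [IsScalarTower.algebraMap_eq R B L, ← Ideal.map_map, ← ker_map_residue, Localization.AtPrime.map_eq_maximalIdeal]
  haveI : IsLocalHom (algebraMap R L) := ((IsLocalRing.local_hom_TFAE (algebraMap R L)).out 2 0).1 hmL.le
  haveI : Module.FaithfullyFlat R L := Module.FaithfullyFlat.of_flat_of_isLocalHom
  let sL := Spec.map (CommRingCat.ofHom (algebraMap B L))
  have hsL : Set.range sL ⊆ Set.range pB.ι := by
    rw [Scheme.Opens.range_ι]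
    rintro _ ⟨z, rfl⟩
    show PrimeSpectrum.comap (algebraMap B L) z ∈ ({closedPoint B}ᶜ : Set (PrimeSpectrum B))
    rw [Set.mem_compl_singleton_iff]
    intro h
    have h1 : (PowerSeries.X : B) ∈ (PrimeSpectrum.comap (algebraMap B L) z).asIdeal := by rw [h]; exact hX
    have h2 : IsUnit (algebraMap B L (PowerSeries.X : B)) := IsLocalization.map_units L (⟨_, hp1X⟩ : p1.primeCompl)
    exact z.isPrime.ne_top (Ideal.eq_top_of_isUnit_mem _ h1 h2)
  let s : Spec (CommRingCat.of L) ⟶ (pB : Scheme.{u}) := IsOpenImmersion.lift pB.ι sL hsL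
  have hs : s ≫ pB.ι = sL := IsOpenImmersion.lift_fac _ _ _
  let spL := Pi1Ext.PuritySch.sp R L
  have hspL : sL ≫ π = spL := by
    rw [← Spec.map_comp, ← CommRingCat.ofHom_comp, ← IsScalarTower.algebraMap_eq R B L]
  have hrt : Set.range (pullback.snd pR.ι spL ≫ sL) ⊆ Set.range U.ι := by
    rw [Scheme.Opens.range_ι]
    rintro _ ⟨z, rfl⟩
    show π ((pullback.snd pR.ι spL ≫ sL) z) ∈ pR
    rw [← Scheme.Hom.comp_apply, Category.assoc, hspL, ← pullback.condition, Scheme.Hom.comp_apply]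
    exact (pullback.fst pR.ι spL z).2
  let t : pullback pR.ι spL ⟶ (U : Scheme.{u}) := IsOpenImmersion.lift U.ι (pullback.snd pR.ι spL ≫ sL) hrt
  have ht : t ≫ U.ι = pullback.snd pR.ι spL ≫ sL := IsOpenImmersion.lift_fac _ _ _
  have htu : t ≫ u = pullback.snd pR.ι spL ≫ s := by
    rw [← cancel_mono pB.ι, Category.assoc, hu, ht, Category.assoc, hs]
  have htπ : t ≫ π' = pullback.fst pR.ι spL := by
    rw [← cancel_mono pR.ι, Category.assoc, hπ', reassoc_of% ht, hspL, pullback.condition]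
  obtain ⟨Y, ⟨eY⟩⟩ := Pi1Alg.exists_extend_of_flat_baseChange (A' := L) hR hmL.le (hmL.ge.trans Ideal.le_radical) V0
    ⟨(FEt.restrict s).obj V, ⟨Pi1Alg.restrictComp (pullback.snd pR.ι spL) s (t ≫ u) htu.symm V ≪≫
      (Pi1Alg.restrictComp t u _ rfl V).symm ≪≫ (FEt.restrict t).mapIso eU ≪≫ Pi1Alg.restrictComp t π' _ htπ V0⟩⟩
  -- back to the power series ring
  let mk := Ideal.Quotient.mk (Ideal.span {(PowerSeries.X : B)})
  let φ := Spec.map (CommRingCat.ofHom (mk.comp σ))
  let sB := Spec.map (CommRingCat.ofHom mk)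
  have hφ : φ = sB ≫ π := by rw [← Spec.map_comp]; rfl
  have hmk : sB ≫ π ≫ ι₀ = sB := by
    rw [← Spec.map_comp, ← Spec.map_comp, ← CommRingCat.ofHom_comp, ← CommRingCat.ofHom_comp]
    congr 2
    refine RingHom.ext fun f => ?_
    show mk (σ (q f)) = mk f
    rw [Ideal.Quotient.eq, ← hkq, RingHom.mem_ker, map_sub, show q (σ (q f)) = q f from RingHom.congr_fun hqσ _, sub_self]
  let fs := pullback.snd pB.ι sB
  have hrr : Set.range (fs ≫ φ) ⊆ Set.range pR.ι := by
    rw [Scheme.Opens.range_ι]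
    rintro _ ⟨z, rfl⟩
    let y : PrimeSpectrum B := sB (fs z)
    have hy : y ≠ closedPoint B := by
      have h1 : sB (fs z) = pB.ι (pullback.fst pB.ι sB z) := by
        rw [← Scheme.Hom.comp_apply, ← Scheme.Hom.comp_apply, pullback.condition]
      have h2 : y ∈ ({closedPoint B}ᶜ : Set (PrimeSpectrum B)) := by
        show sB (fs z) ∈ pB
        rw [h1]; exact (pullback.fst pB.ι sB z).2
      exact h2
    have hXy : (PowerSeries.X : B) ∈ y.asIdeal := by
      show mk PowerSeries.X ∈ (fs z : PrimeSpectrum (B ⧸ Ideal.span {(PowerSeries.X : B)})).asIdeal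
      rw [Ideal.Quotient.eq_zero_iff_mem.2 (Ideal.mem_span_singleton_self _)]
      exact zero_mem _
    show (fs ≫ φ) z ∈ pR
    rw [hφ, Scheme.Hom.comp_apply, Scheme.Hom.comp_apply]
    show (y : ↥(Spec (CommRingCat.of B))) ∈ U
    by_contra hn
    exact hy (PrimeSpectrum.ext (hXU y hXy hn))
  let r : pullback pB.ι sB ⟶ (pR : Scheme.{u}) := IsOpenImmersion.lift pR.ι (fs ≫ φ) hrr
  have hr : r ≫ pR.ι = fs ≫ φ := IsOpenImmersion.lift_fac _ _ _
  have hrf : r ≫ i ≫ u = pullback.fst pB.ι sB := by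
    rw [← cancel_mono pB.ι, Category.assoc, Category.assoc, hu, hi, reassoc_of% hr, hφ, Category.assoc, hmk,
      pullback.condition]
  obtain ⟨Z, hZ⟩ := S0261.result B (by exact_mod_cast hdB) PowerSeries.X hX V
    ⟨(FEt.restrict φ).obj Y, ⟨Pi1Alg.restrictSquare fs φ r pR.ι hr.symm Y ≪≫ (FEt.restrict r).mapIso eY ≪≫
      Pi1Alg.restrictComp r (i ≫ u) _ hrf V⟩⟩
  exact ⟨Z, hZ⟩

end Groth.Agent.Pi1PS

end
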