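import Groth.Agent.Pi1PS.Purity
import Groth.Agent.S0251
import Groth.Agent.S2454
import Groth.Agent.S2462
import Groth.Agent.S2038
import Groth.Agent.Cohen4.Iso
import Groth.Agent.RegFS6.Fibre
import Groth.Agent.GrpSchLib.Reduced
import Groth.Agent.Hensel.DepthFlat

/-!
# Purity for formally smooth algebras over a complete ring with perfect residue field
-/

set_option autoImplicit false
set_option linter.style.haveILetI false
set_option backward.isDefEq.respectTransparency false
set_option backward.isDefEq.respectTransparency.types false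
universe u

open IsLocalRing

noncomputable section

namespace Groth.Agent.Pi1PS

open Groth.Agent

/-- Power series reduced modulo the maximal ideal. -/
theorem ker_map_residue_mv {R : Type u} [CommRing R] [IsLocalRing R] [IsNoetherianRing R] (n : ℕ) :
    RingHom.ker (MvPowerSeries.map (σ := Fin n) (residue R)) =
      (maximalIdeal R).map (algebraMap R (MvPowerSeries (Fin n) R)) := by
  classical
  refine le_antisymm (fun f hf => ?_) ?_
  · obtain ⟨s, hs⟩ := (IsNoetherian.noetherian (maximalIdeal R) : (maximalIdeal R).FG)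
    have hc : ∀ d, ∃ a : R → R, ∑ x ∈ s, a x * x = MvPowerSeries.coeff d f := fun d => by
      have h1 : MvPowerSeries.coeff d f ∈ maximalIdeal R := by
        have h2 := congrArg (MvPowerSeries.coeff d) (RingHom.mem_ker.1 hf)
        rw [MvPowerSeries.coeff_map, map_zero] at h2
        exact (residue_eq_zero_iff _).1 h2
      rw [← hs] at h1
      obtain ⟨a, -, ha⟩ := Submodule.mem_span_finset.1 h1
      exact ⟨a, ha⟩
    choose a ha using hc
    let c : R → MvPowerSeries (Fin n) R := fun x d => a d x
    have : f = ∑ x ∈ s, x • c x := MvPowerSeries.ext fun d => by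
      rw [map_sum, ← ha d]
      refine Finset.sum_congr rfl fun x _ => ?_
      rw [LinearMap.map_smul, smul_eq_mul, mul_comm]
      rfl
    rw [this]
    refine Ideal.sum_mem _ fun x hx => ?_
    rw [Algebra.smul_def]
    exact Ideal.mul_mem_right _ _ (Ideal.mem_map_of_mem _ (hs ▸ Ideal.subset_span hx))
  · refine Ideal.map_le_iff_le_comap.2 fun r hr => ?_
    rw [Ideal.mem_comap, RingHom.mem_ker, MvPowerSeries.algebraMap_apply]
    simp [(residue_eq_zero_iff r).2 hr]

/-- A flat quotient of a module that is an isomorphism on the closed fibre. -/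
theorem mem_map_mul_ker_of_flat {A C B : Type u} [CommRing A] [CommRing C] [CommRing B] [Algebra A C] [Algebra A B]
    [Module.Flat A B] (φ : C →ₐ[A] B) (hφ : Function.Surjective φ) (I : Ideal A) (x : C)
    (hx : φ x = 0) (hxI : x ∈ I.map (algebraMap A C)) :
    x ∈ I.map (algebraMap A C) * RingHom.ker φ := by
  obtain ⟨t, g, c, hg, rfl⟩ : ∃ (t : ℕ) (g : Fin t → A) (c : Fin t → C), (∀ i, g i ∈ I) ∧ x = ∑ i, g i • c i := by
    obtain ⟨n, f, y, hsum⟩ := Submodule.mem_span_set'.1 (show x ∈ Submodule.span C (algebraMap A C '' I) from hxI)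
    choose g hg hgy using fun i => (y i).2
    refine ⟨n, g, f, fun i => hg i, ?_⟩
    rw [← hsum]
    refine Finset.sum_congr rfl fun i _ => ?_
    rw [smul_eq_mul, Algebra.smul_def, hgy, mul_comm]
  simp only [map_sum, map_smul] at hx
  obtain ⟨k, a, y, hy, ha⟩ := (Module.Flat.iff_forall_isTrivialRelation (R := A) (M := B)).1 inferInstance (f := g) (x := fun i => φ (c i)) (by exact hx)
  choose l hl using fun j => hφ (y j)
  have e : ∑ i, g i • c i = ∑ i, g i • (c i - ∑ j, a i j • l j) := by
    simp only [smul_sub, Finset.smul_sum, smul_smul, Finset.sum_sub_distrib]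
    rw [Finset.sum_comm (f := fun i j => (g i * a i j) • l j)]
    simp [← Finset.sum_smul, ha]
  rw [e]
  refine Ideal.sum_mem _ fun i _ => ?_
  rw [Algebra.smul_def]
  refine Ideal.mul_mem_mul (Ideal.mem_map_of_mem _ (hg i)) ?_
  simp [hy i, hl]

variable {A B : Type u} [CommRing A] [IsLocalRing A] [IsNoetherianRing A] [IsAdicComplete (maximalIdeal A) A]
  [CommRing B] [IsLocalRing B] [IsNoetherianRing B] [IsAdicComplete (maximalIdeal B) B]
  [Algebra A B] [IsLocalHom (algebraMap A B)]

/-- Purity for complete formally smooth algebras with perfect residue field of the base. -/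
theorem purityHolds_complete_of_perfect (hA : (2 : ℕ∞) ≤ LocCoh.depth A A) [PerfectField (ResidueField A)]
    (hfs : CAlgX.IsAdicFormallySmooth A B (maximalIdeal B))
    (hne : (maximalIdeal A).map (algebraMap A B) ≠ maximalIdeal B) : FEt.PurityHolds B := by
  classical
  obtain ⟨hflat, hgeo⟩ := (S2038.result (A := A) (B := B)).2 hfs
  haveI := hflat
  let L := ResidueField B
  haveI : Algebra.IsGeometricallyReduced (ResidueField A) L := GrpSchLib.isGeometricallyReduced_of_isReduced (k := ResidueField A) L
  obtain ⟨A', _, _, _, _, hcoh, ⟨eL⟩⟩ := Cohen4.exists_cohenAlgebra (A := A) L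
  have hcoh' := hcoh
  obtain ⟨-, hN, hc, hfl, hm, -⟩ := hcoh'
  haveI := hN; haveI := hc; haveI := hfl
  have hdA' : (2 : ℕ∞) ≤ LocCoh.depth A' A' := hA.trans (Hensel.depth_eq_of_flat_of_map_maximalIdeal_eq A' hm).ge
  -- the lift
  let u : A' →ₐ[A] B ⧸ maximalIdeal B :=
    { (eL : ResidueField A' →+* L).comp (residue A') with
      commutes' := fun a => (eL.commutes (residue A a)) }
  obtain ⟨v, hv, hvu⟩ := S2462.result (maximalIdeal A) (maximalIdeal A') (S2454.result hcoh) (C := B)
    (((local_hom_TFAE (algebraMap A B)).out 0 2).1 ‹IsLocalHom (algebraMap A B)›) (maximalIdeal B)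
    (maximalIdeal.isMaximal B).ne_top u (by
      rw [Ideal.map_quotient_self]
      refine (Ideal.map_le_iff_le_comap.2 fun x hx => ?_)
      rw [Ideal.mem_comap, Ideal.mem_bot]
      show eL (residue A' x) = 0
      rw [(residue_eq_zero_iff x).2 hx, map_zero])
  letI : Algebra A' B := v.toRingHom.toAlgebra
  haveI : IsScalarTower A A' B := IsScalarTower.of_algebraMap_eq fun a => (v.commutes a).symm
  have hres : ∀ x : A', residue B (algebraMap A' B x) = eL (residue A' x) := fun x => AlgHom.congr_fun hvu x
  -- the closed fibre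
  let I := (maximalIdeal A).map (algebraMap A B)
  have hI : I ≤ maximalIdeal B := ((local_hom_TFAE (algebraMap A B)).out 0 2).1 ‹IsLocalHom (algebraMap A B)›
  let R0 := B ⧸ I
  haveI : Nontrivial R0 := Ideal.Quotient.nontrivial_iff.2 (ne_top_of_le_ne_top (maximalIdeal.isMaximal B).ne_top hI)
  haveI : IsLocalRing R0 := IsLocalRing.of_surjective' (Ideal.Quotient.mk I) Ideal.Quotient.mk_surjective
  obtain ⟨e0⟩ := RegFS6.closedFibre_equiv_quot A B
  haveI : IsRegularLocalRing R0 := by
    haveI := FlatLoc6.isRegularRing_of_geometricallyRegular hgeo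
    haveI : IsLocalRing ((maximalIdeal A).Fiber B) := e0.symm.isLocalRing
    haveI : IsRegularLocalRing ((maximalIdeal A).Fiber B) := IsRegularLocalRing.of_isRegularRing_of_isLocalRing _
    exact IsRegularLocalRing.of_ringEquiv e0
  have hm0 : (maximalIdeal B).map (Ideal.Quotient.mk I) = maximalIdeal R0 := IsLocalRing.eq_maximalIdeal
    (Ideal.IsMaximal.map_of_surjective_of_ker_le Ideal.Quotient.mk_surjective (by rw [Ideal.mk_ker]; exact hI))
  obtain ⟨s, hsc, hs⟩ := Submodule.FG.exists_span_finset_card_eq_spanFinrank (IsNoetherian.noetherian (maximalIdeal R0))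
  choose l hl using Ideal.Quotient.mk_surjective (I := I)
  let b : Fin s.card → B := fun i => l (s.equivFin.symm i : R0)
  have hrange : Set.range (fun i => Ideal.Quotient.mk I (b i)) = (s : Set R0) := by
    ext x
    constructor
    · rintro ⟨i, rfl⟩; simp only [b, hl]; exact (s.equivFin.symm i).2
    · intro hx; exact ⟨s.equivFin ⟨x, hx⟩, by simp [b, hl]⟩
  have hspan : maximalIdeal B = I ⊔ Ideal.span (Set.range b) := by
    have h1 : (maximalIdeal B).map (Ideal.Quotient.mk I) = (Ideal.span (Set.range b)).map (Ideal.Quotient.mk I) := by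
      rw [hm0, Ideal.map_span, ← Set.range_comp]
      exact hs.symm.trans (by rw [show (Ideal.Quotient.mk I ∘ b) = fun i => Ideal.Quotient.mk I (b i) from rfl, hrange])
    have h2 := congrArg (Ideal.comap (Ideal.Quotient.mk I)) h1
    rw [Ideal.comap_map_of_surjective' _ Ideal.Quotient.mk_surjective,
      Ideal.comap_map_of_surjective' _ Ideal.Quotient.mk_surjective, Ideal.mk_ker, sup_eq_left.2 hI] at h2
    rw [h2, sup_comm]
  have hb : ∀ i, b i ∈ maximalIdeal B := fun i => by
    rw [hspan]; exact Ideal.mem_sup_right (Ideal.subset_span ⟨i, rfl⟩)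
  let C := MvPowerSeries (Fin s.card) A'
  obtain ⟨ψ, hψ⟩ := PSLib.exists_algHom (R := A') (maximalIdeal B) b hb
  -- surjectivity
  let J : Ideal B := Ideal.span (Set.range b)
  haveI : IsHausdorff J B := IsHausdorff.of_le_jacobson J B
    ((Ideal.span_le.2 (by rintro _ ⟨i, rfl⟩; exact hb i)).trans (maximalIdeal_le_jacobson _))
  have hsurj : Function.Surjective ψ := by
    have hJC : (PSLib.vars s.card A').map (ψ : C →+* B) = J := by
      rw [PSLib.vars, Ideal.map_span, ← Set.range_comp]
      exact congrArg Ideal.span (congrArg Set.range (funext hψ))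
    refine PSLib.surjective_of_first_order (ψ : C →+* B) (I := PSLib.vars s.card A') (J := J)
      (IsNoetherian.noetherian _) ((Ideal.span_le.2 (by rintro _ ⟨i, rfl⟩; exact hb i)).trans (maximalIdeal_le_jacobson _))
      hJC.le (le_sup_of_le_left hJC.ge) ?_
    rcases subsingleton_or_nontrivial (B ⧸ J) with hBJ | hBJ
    · exact fun y => ⟨0, Ideal.Quotient.eq_zero_iff_mem.1 (Subsingleton.elim _ _)⟩
    haveI : IsLocalRing (B ⧸ J) := IsLocalRing.of_surjective' (Ideal.Quotient.mk J) Ideal.Quotient.mk_surjective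
    let τ : A' →+* B ⧸ J := (Ideal.Quotient.mk J).comp (algebraMap A' B)
    haveI : IsLocalHom (Ideal.Quotient.mk J) := IsLocalHom.of_surjective _ Ideal.Quotient.mk_surjective
    have hmJ : (maximalIdeal B).map (Ideal.Quotient.mk J) = maximalIdeal (B ⧸ J) := IsLocalRing.eq_maximalIdeal
      (Ideal.IsMaximal.map_of_surjective_of_ker_le Ideal.Quotient.mk_surjective
        (by rw [Ideal.mk_ker]; exact le_maximalIdeal (Ideal.Quotient.nontrivial_iff.1 hBJ)))
    have hτ : (maximalIdeal A').map τ = maximalIdeal (B ⧸ J) := by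
      rw [← hmJ, hspan, Ideal.map_sup, Ideal.map_quotient_self, sup_bot_eq, ← hm, Ideal.map_map,
        show I = (maximalIdeal A).map (algebraMap A B) from rfl, Ideal.map_map, RingHom.comp_assoc,
        ← IsScalarTower.algebraMap_eq A A' B]
    have hτs : Function.Surjective τ := PSLib.surjective_of_first_order τ (I := maximalIdeal A')
      (J := maximalIdeal (B ⧸ J)) (IsNoetherian.noetherian _) (maximalIdeal_le_jacobson _) hτ.le
      (le_sup_of_le_left hτ.ge) fun y => by
        obtain ⟨y, rfl⟩ := Ideal.Quotient.mk_surjective y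
        obtain ⟨x, hx⟩ := residue_surjective (eL.symm (residue B y))
        refine ⟨x, ?_⟩
        rw [← hmJ]
        refine (map_sub (Ideal.Quotient.mk J) y (algebraMap A' B x)).symm ▸ Ideal.mem_map_of_mem _ ?_
        rw [← residue_eq_zero_iff, map_sub, hres, hx, AlgEquiv.apply_symm_apply, sub_self]
    intro y
    obtain ⟨x, hx⟩ := hτs (Ideal.Quotient.mk J y)
    refine ⟨algebraMap A' C x, ?_⟩
    rw [show (ψ : C →+* B) (algebraMap A' C x) = algebraMap A' B x from ψ.commutes x]
    exact Ideal.Quotient.eq.1 hx.symm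
  -- the closed fibre of the power series ring
  let K := ResidueField A'
  have hker : RingHom.ker (MvPowerSeries.map (σ := Fin s.card) (residue A')) =
      (maximalIdeal A).map (algebraMap A C) := by
    rw [ker_map_residue_mv, ← hm, Ideal.map_map, ← IsScalarTower.algebraMap_eq]
  have hmapsurj : Function.Surjective (MvPowerSeries.map (σ := Fin s.card) (residue A')) := fun g => by
    choose c hc using fun d => residue_surjective (MvPowerSeries.coeff d g)
    exact ⟨(c : MvPowerSeries (Fin s.card) A'), MvPowerSeries.ext fun d => (MvPowerSeries.coeff_map _ _ _).trans (hc d)⟩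
  let ψA : C →ₐ[A] B := ψ.restrictScalars A
  let f0 : C →+* R0 := (Ideal.Quotient.mk I).comp (ψ : C →+* B)
  let ψ0 : MvPowerSeries (Fin s.card) K →+* R0 := RingHom.liftOfSurjective (MvPowerSeries.map (residue A')) hmapsurj
    ⟨f0, by
      rw [hker, Ideal.map_le_iff_le_comap]
      intro a ha
      rw [Ideal.mem_comap, RingHom.mem_ker]
      show Ideal.Quotient.mk I (ψA (algebraMap A C a)) = 0
      rw [AlgHom.commutes]
      exact Ideal.Quotient.eq_zero_iff_mem.2 (Ideal.mem_map_of_mem _ ha)⟩
  have hψ0 : ∀ x, ψ0 (MvPowerSeries.map (residue A') x) = f0 x := fun x =>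
    RingHom.liftOfRightInverse_comp_apply _ _ _ ⟨f0, _⟩ x
  have hbij := PSLib.bijective_of_surjective K s.card ψ0 (fun y => by
    obtain ⟨y, rfl⟩ := Ideal.Quotient.mk_surjective y
    obtain ⟨x, rfl⟩ := hsurj y
    exact ⟨_, hψ0 x⟩) (by rw [hsc]; exact ((isRegularLocalRing_iff R0).1 inferInstance).symm)
  haveI : Module.Flat A' C := CplFib6.flat_mvPowerSeries A' s.card
  have hkerI : RingHom.ker ψA ≤ (maximalIdeal A).map (algebraMap A C) • RingHom.ker ψA := fun x hx => by
    rw [smul_eq_mul]
    refine mem_map_mul_ker_of_flat ψA hsurj _ x hx ?_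
    rw [← hker, RingHom.mem_ker]
    refine hbij.1 ?_
    rw [map_zero, hψ0]
    show Ideal.Quotient.mk I (ψA x) = 0
    rw [RingHom.mem_ker.1 hx, map_zero]
  have hk0 : RingHom.ker ψA = ⊥ := Submodule.eq_bot_of_le_smul_of_le_jacobson_bot _ _
    (IsNoetherian.noetherian _) hkerI ((le_maximalIdeal fun h => by
      have h1 : (1 : C) ∈ RingHom.ker (MvPowerSeries.map (σ := Fin s.card) (residue A')) := by rw [hker, h]; trivial
      rw [RingHom.mem_ker, map_one] at h1
      exact one_ne_zero h1).trans (maximalIdeal_le_jacobson _))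
  have hinj : Function.Injective ψ := (RingHom.injective_iff_ker_eq_bot (ψ : C →+* B)).2 hk0
  have hs1 : 1 ≤ s.card := by
    rcases Nat.eq_zero_or_pos s.card with h0 | h0
    · exfalso
      apply hne
      haveI : IsEmpty (Fin s.card) := h0 ▸ Fin.isEmpty'
      rw [hspan, Set.range_eq_empty b, Ideal.span_empty, sup_bot_eq]
    · exact h0
  exact Pi1Alg.purityHolds_of_ringEquiv (RingEquiv.ofBijective (ψ : C →+* B) ⟨hinj, hsurj⟩)
    (S0251.result A' hdA' s.card hs1)

end Groth.Agent.Pi1PS

end
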