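import Groth.Agent.S0250
import Groth.Agent.Pi1X.FEtGlobal
import Groth.Agent.Pi1Alg.EssSurj
import Mathlib.AlgebraicGeometry.Normalization
import Mathlib.AlgebraicGeometry.Noetherian

/-!
# Extension of covers over a locally Noetherian scheme
-/

set_option autoImplicit false
set_option linter.style.haveILetI false
set_option backward.isDefEq.respectTransparency false
set_option backward.isDefEq.respectTransparency.types false
universe u

open CategoryTheory CategoryTheory.Limits AlgebraicGeometry TopologicalSpace

noncomputable section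

namespace Groth.Agent.Pi1PS

open Groth.Agent

/-- A morphism of affine schemes is an isomorphism if it is bijective on global sections. -/
theorem isIso_of_bijective_appTop {A B : Scheme.{u}} [IsAffine A] [IsAffine B] (d : A ⟶ B)
    (h : Function.Bijective d.appTop) : IsIso d := by
  haveI : IsIso d.appTop := (ConcreteCategory.isIso_iff_bijective _).2 h
  haveI : IsIso (A.isoSpec.hom ≫ Spec.map d.appTop) := inferInstance
  have h1 := Scheme.isoSpec_hom_naturality d
  haveI : IsIso (d ≫ B.isoSpec.hom) := by rw [← h1]; infer_instance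
  exact IsIso.of_isIso_comp_right d B.isoSpec.hom

/-- Global sections inject along the map to the normalization over an affine scheme. -/
theorem toNormalization_appTop_injective {P W : Scheme.{u}} [IsAffine W] (h : P ⟶ W) [QuasiCompact h]
    [QuasiSeparated h] : Function.Injective h.toNormalization.appTop := by
  haveI : IsAffine h.normalization := isAffine_of_isAffineHom h.fromNormalization
  have h1 := h.toNormalization.ker_apply ⟨⊤, isAffineOpen_top h.normalization⟩
  rw [Scheme.Hom.ker_toNormalization, Scheme.IdealSheafData.ideal_bot, Pi.bot_apply] at h1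
  exact (RingHom.injective_iff_ker_eq_bot _).2 h1.symm

/-- Covers of an open extend if purity holds at the points outside and they have depth at least two. -/
theorem essSurj_of_purity {X : Scheme.{u}} [IsLocallyNoetherian X] (U : X.Opens)
    (hd : ∀ x : X, x ∉ U → (2 : ℕ∞) ≤ LocCoh.depth (X.presheaf.stalk x) (X.presheaf.stalk x))
    (hp : ∀ x : X, x ∉ U → FEt.PurityHolds (X.presheaf.stalk x)) : (FEt.restrict U.ι).EssSurj := by
  refine ⟨fun V => ?_⟩
  let v : V.left ⟶ (U : Scheme.{u}) := V.hom
  haveI : IsFinite v := V.prop.1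
  haveI : Etale v := V.prop.2
  let g : V.left ⟶ X := v ≫ U.ι
  haveI : QuasiCompact g := inferInstance
  haveI : QuasiSeparated g := inferInstance
  have hπ : FEt.prop g.fromNormalization := by
    refine IsZariskiLocalAtTarget.of_iSup_eq_top (P := FEt.prop.{u}) (fun W : X.affineOpens => (W : X.Opens))
      (iSup_affineOpens_eq_top X) fun ⟨W, hW⟩ => ?_
    show FEt.prop (g.fromNormalization ∣_ W)
    rw [← (isPullback_morphismRestrict g.fromNormalization W).flip.isoPullback_hom_snd,
      MorphismProperty.cancel_left_of_respectsIso (P := FEt.prop.{u})]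
    rw [← MorphismProperty.cancel_left_of_respectsIso (P := FEt.prop.{u}) (g.normalizationPullback W.ι),
      Scheme.Hom.normalizationPullback_snd]
    -- the affine piece
    haveI : IsAffine (W : Scheme.{u}) := hW
    haveI : CompactSpace (W : Scheme.{u}) := isCompact_iff_compactSpace.1 hW.isCompact
    haveI : IsNoetherian (W : Scheme.{u}) := {}
    let UW : (W : Scheme.{u}).Opens := W.ι ⁻¹ᵁ U
    let r : (UW : Scheme.{u}) ⟶ (U : Scheme.{u}) := W.ι ∣_ U
    have hstalk : ∀ w : (W : Scheme.{u}), w ∉ UW →
        FEt.PurityHolds ((W : Scheme.{u}).presheaf.stalk w) := fun w hw =>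
      Pi1Alg.purityHolds_of_ringEquiv (asIso (W.ι.stalkMap w)).commRingCatIsoToRingEquiv (hp _ hw)
    haveI := S0250.result UW hstalk
    let VW := (FEt.restrict r).obj V
    let Y := (FEt.restrict UW.ι).objPreimage VW
    let eY : (FEt.restrict UW.ι).obj Y ≅ VW := (FEt.restrict UW.ι).objObjPreimageIso VW
    let eL := (MorphismProperty.Over.forget FEt.prop.{u} ⊤ _ ⋙ Over.forget _).mapIso eY
    have heL : eL.hom ≫ VW.hom = pullback.snd Y.hom UW.ι := Over.w ((MorphismProperty.Over.forget FEt.prop.{u} ⊤ _).map eY.hom)
    have hVW : IsPullback (pullback.fst v r) (pullback.snd v r ≫ UW.ι) g W.ι :=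
      (IsPullback.of_hasPullback v r).paste_vert (isPullback_morphismRestrict W.ι U)
    let y : Y.left ⟶ (W : Scheme.{u}) := Y.hom
    haveI : IsFinite y := Y.prop.1
    haveI : Etale y := Y.prop.2
    haveI : IsAffine Y.left := isAffine_of_isAffineHom y
    haveI : IsLocallyNoetherian Y.left := LocallyOfFiniteType.isLocallyNoetherian y
    let j : pullback g W.ι ⟶ Y.left := hVW.isoPullback.inv ≫ eL.inv ≫ pullback.fst y UW.ι
    haveI : IsOpenImmersion j := inferInstance
    have hj : j ≫ y = pullback.snd g W.ι := by
      rw [Category.assoc, Category.assoc, pullback.condition, ← hVW.isoPullback_inv_snd]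
      congr 1
      rw [← Category.assoc]
      congr 1
      rw [Iso.inv_comp_eq]; exact heL.symm
    let h := pullback.snd g W.ι
    haveI : IsIntegralHom y := inferInstance
    let d := h.normalizationDesc j y hj.symm
    have hdc : d ≫ y = h.fromNormalization := h.normalizationDesc_comp _ _ _
    have hjb : Function.Bijective j.appTop := Pi1X.appTop_bijective_of_depth j fun w hw => by
      have hrange : Set.range j.base = Set.range (pullback.fst y UW.ι).base := by
        apply Set.Subset.antisymm
        · rintro _ ⟨z, rfl⟩; exact ⟨eL.inv (hVW.isoPullback.inv z), rfl⟩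
        · rintro _ ⟨z, rfl⟩
          obtain ⟨z₁, rfl⟩ := eL.inv.surjective z
          obtain ⟨z₂, rfl⟩ := hVW.isoPullback.inv.surjective z₁
          exact ⟨z₂, rfl⟩
      rw [hrange, Scheme.Pullback.range_fst, Scheme.Opens.range_ι] at hw
      exact ((hd _ hw).trans (Pi1X.depth_stalk_le W.ι (y.base w))).trans (Pi1X.depth_stalk_le y w)
    haveI : IsAffine h.normalization := isAffine_of_isAffineHom h.fromNormalization
    haveI : IsIso d := isIso_of_bijective_appTop d (by
      have hc : ∀ z, h.toNormalization.appTop (d.appTop z) = j.appTop z := fun z => by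
        rw [← ConcreteCategory.comp_apply, ← Scheme.Hom.comp_appTop, h.toNormalization_normalizationDesc]
      refine ⟨fun a b hab => hjb.1 (by rw [← hc, ← hc, hab]), fun n => ?_⟩
      obtain ⟨z, hz⟩ := hjb.2 (h.toNormalization.appTop n)
      exact ⟨z, toNormalization_appTop_injective h ((hc z).trans hz)⟩)
    rw [← hdc, MorphismProperty.cancel_left_of_respectsIso (P := FEt.prop.{u})]
    exact Y.prop
  -- the restriction
  let Y : FEt.Cat X := MorphismProperty.Over.mk ⊤ g.fromNormalization hπ
  have hkp : IsPullback (𝟙 (U : Scheme.{u})) (𝟙 _) U.ι U.ι :=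
    IsKernelPair.id_of_mono U.ι
  have hgU : IsPullback (𝟙 V.left) v g U.ι := by
    have h1 : IsPullback (𝟙 V.left) v v (𝟙 (U : Scheme.{u})) := IsPullback.of_horiz_isIso ⟨by simp⟩
    have h2 := h1.paste_vert hkp
    rwa [Category.comp_id] at h2
  haveI : IsIntegralHom (pullback.snd g U.ι) := by
    rw [← hgU.isoPullback_inv_snd]; infer_instance
  let e : pullback g.fromNormalization U.ι ≅ V.left :=
    (asIso (g.normalizationPullback U.ι)).symm ≪≫ (asIso (pullback.snd g U.ι).toNormalization).symm ≪≫ hgU.isoPullback.symm
  refine ⟨Y, ⟨MorphismProperty.Over.isoMk e ?_⟩⟩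
  show ((asIso (g.normalizationPullback U.ι)).inv ≫ (asIso (pullback.snd g U.ι).toNormalization).inv ≫ hgU.isoPullback.inv) ≫ v = pullback.snd g.fromNormalization U.ι
  rw [Category.assoc, Category.assoc, hgU.isoPullback_inv_snd, asIso_inv, asIso_inv, IsIso.inv_comp_eq, IsIso.inv_comp_eq,
    g.normalizationPullback_snd, Scheme.Hom.toNormalization_fromNormalization]

end Groth.Agent.Pi1PS

end
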