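import Groth.Agent.Pi1Rig.Algebraize
import Groth.Agent.Pi1Rig.Model
import Groth.Agent.Pi1Rig.FullAt
import Mathlib.Topology.NoetherianSpace
import Groth.Agent.Pi1Rig.Germ

/-!
# Lifting clopen subsets from the divisor of an arbitrary open
-/

set_option autoImplicit false
set_option linter.unusedSectionVars false
set_option linter.style.haveILetI false
set_option backward.isDefEq.respectTransparency false
set_option backward.isDefEq.respectTransparency.types false
universe u

open CategoryTheory CategoryTheory.Limits AlgebraicGeometry IsLocalRing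

noncomputable section

namespace Groth.Agent.Pi1Rig

open Groth.Agent Groth.Agent.Pi1Alg Groth.Agent.Pi1Ext Groth.Agent.Pi1Ext.RegPurity Groth.Agent.Pi1Ext.PuritySch

section

variable {A : Type u} [CommRing A] [IsLocalRing A] [IsNoetherianRing A] {ι : Type} [Fintype ι] {h : ι → A} {f : A} {C : Type u} [CommRing C] [Algebra A C]

/-- Finiteness of the sections on the punctured divisor. -/
theorem finite_H0_quot' [Module.Finite A C]
    (hret : ∀ j, ∃ (p : ℕ) (σ : C →ₗ[A] (Fin p → A)) (ρ : (Fin p → A) →ₗ[A] C) (b : ℕ), ∀ c, ρ (σ c) = h j ^ b • c)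
    (h1 : Module.Finite A (LocCoh.H (idl fun o : Option ι => o.elim f h) 1 (A ⧸ Ideal.span {f}))) :
    Module.Finite A (H0 h (C ⧸ (Ideal.span {algebraMap A C f}).restrictScalars A)) := by
  let g : Option ι → A := fun o => o.elim f h
  let T := A ⧸ Ideal.span {f}
  let Q := C ⧸ (Ideal.span {algebraMap A C f}).restrictScalars A
  haveI : Module.Finite A (LocCoh.H (idl g) 1 T) := h1
  haveI := finite_H0 g T inferInstance
  have hf0 : ∀ q : Q, f • q = 0 := fun q => by
    obtain ⟨c, rfl⟩ := Submodule.Quotient.mk_surjective _ q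
    rw [← Submodule.Quotient.mk_smul, Submodule.Quotient.mk_eq_zero]
    exact Ideal.mem_span_singleton'.2 ⟨c, by rw [Algebra.smul_def, mul_comm]⟩
  have hLS : LS g Q T := fun o => by
    cases o with
    | none => exact ⟨0, 0, 0, 1, fun q => by simp [g, hf0]⟩
    | some j =>
      obtain ⟨p, σ, ρ, b, hb⟩ := hret j
      let πT : (Fin p → A) →ₗ[A] (Fin p → T) :=
        LinearMap.pi fun i => (Ideal.Quotient.mkₐ A (Ideal.span {f})).toLinearMap ∘ₗ LinearMap.proj i
      have hσ : (Ideal.span {algebraMap A C f}).restrictScalars A ≤ LinearMap.ker (πT ∘ₗ σ) := by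
        intro c hc
        obtain ⟨d, rfl⟩ := Ideal.mem_span_singleton'.1 hc
        refine funext fun i => ?_
        show Ideal.Quotient.mk (Ideal.span {f}) (σ (d * algebraMap A C f) i) = 0
        rw [mul_comm, ← Algebra.smul_def, map_smul, Pi.smul_apply, Ideal.Quotient.eq_zero_iff_mem]
        exact Ideal.mul_mem_right _ _ (Ideal.mem_span_singleton_self f)
      let ρT : (Fin p → T) →ₗ[A] Q := ∑ i,
        (Submodule.liftQ (Ideal.span {f}) (LinearMap.toSpanSingleton A Q (Submodule.Quotient.mk (ρ (Pi.single i 1))))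
          (fun x hx => by
            obtain ⟨d, rfl⟩ := Ideal.mem_span_singleton'.1 hx
            rw [LinearMap.mem_ker, LinearMap.toSpanSingleton_apply, mul_smul, hf0, smul_zero])) ∘ₗ LinearMap.proj i
      refine ⟨p, Submodule.liftQ _ (πT ∘ₗ σ) hσ, ρT, b, fun q => ?_⟩
      obtain ⟨c, rfl⟩ := Submodule.Quotient.mk_surjective _ q
      have hρ : ∀ v, ρT (πT v) = Submodule.Quotient.mk (ρ v) := fun v => by
        rw [LinearMap.sum_apply]
        conv_rhs => rw [← Finset.univ_sum_single v]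
        rw [map_sum, ← Submodule.mkQ_apply (p := (Ideal.span {algebraMap A C f}).restrictScalars A), map_sum]
        refine Finset.sum_congr rfl fun i _ => ?_
        show v i • (Submodule.Quotient.mk (ρ (Pi.single i 1)) : Q) = (Submodule.Quotient.mk (ρ (Pi.single i (v i))) : Q)
        rw [← Submodule.Quotient.mk_smul, ← map_smul, ← Pi.single_smul, smul_eq_mul, mul_one]
      show ρT (πT (σ c)) = h j ^ b • Submodule.Quotient.mk c
      rw [hρ, hb]
      rfl
  haveI := LS.finite_H0 g hLS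
  have hzero : ∀ (x : A), f ∣ x → ∀ z : L Q x, z = 0 := fun x hx z => by
    obtain ⟨n, m, hm⟩ := exists_mk Q z
    refine pow_injective Q dvd_rfl n ((hm.trans ((mk_eq_zero Q).2 ⟨1, ?_⟩)).trans (smul_zero _).symm)
    obtain ⟨d, rfl⟩ := hx
    rw [pow_one, mul_comm, mul_smul, hf0, smul_zero]
  let E : H0 h Q →ₗ[A] C0 g Q := LinearMap.pi fun o => match o with
    | none => 0
    | some j => LinearMap.proj j ∘ₗ (H0 h Q).subtype
  have hE : ∀ z, E z ∈ H0 g Q := fun z => by
    rw [mem_H0]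
    intro o o'
    rcases o with - | j
    · exact (hzero _ (dvd_mul_right f _) _).trans (hzero _ (dvd_mul_right f _) _).symm
    rcases o' with - | k
    · exact (hzero _ (dvd_mul_left f _) _).trans (hzero _ (dvd_mul_left f _) _).symm
    exact (mem_H0 h Q).1 z.2 j k
  exact Module.Finite.of_injective (LinearMap.codRestrict _ E hE) fun a b hab => Subtype.ext (funext fun j =>
    congrFun (congrArg Subtype.val hab) (some j))

end

variable {A : Type u} [CommRing A] [IsLocalRing A] [IsNoetherianRing A] {U : (Spec (CommRingCat.of A)).Opens} {f : A}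

/-- A clopen subset of the restriction to the divisor extends to a neighbourhood. -/
theorem lift_one' [IsAdicComplete (Ideal.span {f}) A] (hnz : f ∈ nonZeroDivisors A)
    (hfinH : ∀ {r : ℕ} (h : Fin r → A), IsUnion U h →
      Module.Finite A (LocCoh.H (idl fun o : Option (Fin r) => o.elim f h) 1 (A ⧸ Ideal.span {f}))) {X : Scheme.{u}}
    (i : X ⟶ (U : Scheme.{u})) [IsClosedImmersion i]
    (hi : Set.range i = {x | f ∈ (U.ι x : PrimeSpectrum A).asIdeal}) (W : FEt.Cat (U : Scheme.{u}))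
    {S₀ : Set ↥(pullback W.hom i)} (hS₀ : IsClopen S₀) :
    ∃ U₁ : (Spec (CommRingCat.of A)).Opens, U₁ ≤ U ∧
      (∀ p : PrimeSpectrum A, f ∈ p.asIdeal → p ∈ U → p ∈ U₁) ∧
      ∃ G G' : Set W.left, IsOpen G ∧ IsOpen G' ∧ (∀ v, U.ι (W.hom v) ∈ U₁ → (v ∈ G' ↔ v ∉ G)) ∧
        (pullback.fst W.hom i).base ⁻¹' G = S₀ := by
  classical
  obtain ⟨J, hJ⟩ := (PrimeSpectrum.isOpen_iff (R := A) U.1).1 U.2
  obtain ⟨I, hI⟩ : ∃ I : Ideal A, (U.1 : Set (PrimeSpectrum A))ᶜ = PrimeSpectrum.zeroLocus (I : Set A) :=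
    ⟨Ideal.span J, by rw [PrimeSpectrum.zeroLocus_span]; exact hJ⟩
  obtain ⟨r, h, rfl⟩ := Submodule.fg_iff_exists_fin_generating_family.1 (IsNoetherian.noetherian I)
  have hun : IsUnion U h := fun p => by
    have : p ∈ PrimeSpectrum.zeroLocus (Ideal.span (Set.range h) : Set A) ↔ p ∉ U := Set.ext_iff.1 hI.symm p
    rw [PrimeSpectrum.zeroLocus_span, PrimeSpectrum.mem_zeroLocus] at this
    rw [← not_not (a := p ∈ U), ← this, Set.range_subset_iff, not_forall]
    rfl
  obtain ⟨C, _, _, _, hC, k, hk, hkw, hrange⟩ := exists_model hun W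
  haveI := hk
  have hko := k.isOpenEmbedding
  have hreg : IsSMulRegular A f := fun a b hab => (mul_cancel_left_mem_nonZeroDivisors hnz).1 hab
  have hfin := finite_H0_quot' (fun j => exists_retr_base (hC j)) (hfinH h hun)
  haveI : Algebra.FinitePresentation A C := Algebra.FinitePresentation.of_finiteType.mp inferInstance
  have hr2 : ∀ j l, IsSMulRegular (L C (h j * h l)) f := fun j l => by
    refine isSMulRegular_loc hreg ?_
    unfold EtAway
    rw [← Algebra.basicOpen_subset_etaleLocus_iff_etale]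
    refine subset_trans ?_ (Algebra.basicOpen_subset_etaleLocus_iff_etale.2 (hC j))
    rw [map_mul]
    exact PrimeSpectrum.basicOpen_mul_le_left _ _
  have hpt : ∀ v, sp A C (k v) = U.ι (W.hom v) := fun v => by
    rw [← Scheme.Hom.comp_apply, hkw, Scheme.Hom.comp_apply]
    rfl
  -- the clopen set on the chart
  let j₀ : pullback W.hom i ⟶ W.left := pullback.fst W.hom i
  haveI : IsClosedImmersion j₀ := MorphismProperty.pullback_fst _ _ ‹IsClosedImmersion i›
  have hj := j₀.isClosedEmbedding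
  have hjr : ∀ v, v ∈ Set.range j₀ ↔ (k v : PrimeSpectrum C) ∈ ZSet f C := fun v => by
    rw [show Set.range j₀ = W.hom ⁻¹' Set.range i from Scheme.Pullback.range_fst _ _, hi]
    show _ ↔ f ∈ (sp A C (k v) : PrimeSpectrum A).asIdeal
    exact (iff_of_eq (congrArg (fun p : PrimeSpectrum A => f ∈ p.asIdeal) (hpt v))).symm
  let D : Set (PrimeSpectrum C) := k '' (j₀ '' S₀)
  obtain ⟨e₀, he1, he2, he3⟩ := exists_family h f D (k '' (j₀ '' S₀ᶜ)ᶜ) (k '' (j₀ '' S₀)ᶜ)
    (hko.isOpenMap _ (hj.isClosedMap _ hS₀.compl.isClosed).isOpen_compl)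
    (hko.isOpenMap _ (hj.isClosedMap _ hS₀.isClosed).isOpen_compl) (fun p hp hpZ => by
      obtain ⟨v, rfl⟩ := (hrange p).1 hp
      obtain ⟨x, rfl⟩ := (hjr v).2 hpZ
      simp only [D, hko.injective.mem_set_image, Set.mem_compl_iff, hj.injective.mem_set_image, not_not, true_and])
  obtain ⟨a, ha, v, hvH, hvv, hvw⟩ :=
    exists_idem_near (fun j => isSMulRegular_loc hreg (hC j)) hr2 hfin e₀ he1 he2
  choose w hw using hvw
  obtain ⟨E₁, E₂, hE₁, hE₂, hEE, hED⟩ := exists_extend_of_idem (fun j => a j * h j) (D := D)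
    (a := fun j => res C (dvd_snd (a j) (h j)) (e₀ j)) (fun j P hP => by
      rw [← resL_res, ← ch_comap C (dvd_snd (a j) (h j)) P]
      refine Iff.trans ?_ (he3 j _ ?_)
      · rfl
      · show (resL C (dvd_snd (a j) (h j))) (algebraMap A (Loc C (h j)) f) ∈ P.asIdeal
        rw [← AlgHom.restrictScalars_apply A, AlgHom.commutes]
        exact hP) hvH hvv (y := w) (funext hw)
  let U₁ : (Spec (CommRingCat.of A)).Opens :=
    ⟨⋃ j, (PrimeSpectrum.basicOpen (a j * h j) : Set (PrimeSpectrum A)),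
      isOpen_iUnion fun j => (PrimeSpectrum.basicOpen _).2⟩
  have hmem : ∀ p : PrimeSpectrum A, p ∈ U₁ ↔ ∃ j, a j * h j ∉ p.asIdeal := fun p => Set.mem_iUnion
  have hZU : ∀ p : PrimeSpectrum A, f ∈ p.asIdeal → p ∈ U → p ∈ U₁ := fun p hfp hp => by
    obtain ⟨j, hj⟩ := (hun p).1 hp
    obtain ⟨b, n, hab⟩ := ha j
    refine (hmem p).2 ⟨j, fun hm => (p.2.mem_or_mem hm).elim (fun h' => hj (p.2.mem_of_pow_mem n ?_)) hj⟩
    rw [hab] at h'
    exact (p.asIdeal.add_mem_iff_left (p.asIdeal.mul_mem_right b hfp)).1 h'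
  have hO : ∀ v, (k v : PrimeSpectrum C) ∈ OSet (fun j => a j * h j) C ↔ U.ι (W.hom v) ∈ U₁ := fun v => by
    exact (hmem (sp A C (k v))).symm.trans (iff_of_eq (congrArg (· ∈ U₁) (hpt v)))
  refine ⟨U₁, fun p hp => ?_, hZU, k ⁻¹' E₁, k ⁻¹' E₂, hE₁.preimage k.continuous, hE₂.preimage k.continuous,
    fun v hv => hEE _ ((hO v).2 hv), Set.ext fun x => ?_⟩
  · obtain ⟨j, hj⟩ := (hmem p).1 hp
    exact (hun p).2 ⟨j, fun h' => hj (Ideal.mul_mem_left _ _ h')⟩
  · have hz : (k (j₀ x) : PrimeSpectrum C) ∈ ZSet f C := (hjr _).1 ⟨x, rfl⟩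
    have hU1 : U.ι (W.hom (j₀ x)) ∈ U₁ :=
      hZU _ ((congrArg (fun p : PrimeSpectrum A => f ∈ p.asIdeal) (hpt (j₀ x))).mp hz) (W.hom (j₀ x)).2
    show k (j₀ x) ∈ E₁ ↔ x ∈ S₀
    rw [hED _ ((hO _).2 hU1) hz, hko.injective.mem_set_image, hj.injective.mem_set_image]

end Groth.Agent.Pi1Rig

end
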