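import Groth.Agent.Pi1Alg.Descend
import Groth.Agent.PopescuLib.StageDescent

/-!
# Models of finite covers étale away from a closed set over finitely generated stages
-/

set_option autoImplicit false
set_option linter.style.haveILetI false
set_option linter.unusedSectionVars false
set_option backward.isDefEq.respectTransparency false
set_option backward.isDefEq.respectTransparency.types false
universe u

open CategoryTheory CategoryTheory.Limits AlgebraicGeometry TensorProduct IsLocalRing

noncomputable section

namespace Groth.Agent.Pi1PS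

open Groth.Agent Pi1Ext.RegPurity Pi1Ext.PuritySch

/-- Being étale away from an element, on the localized tensor product. -/
theorem etAway_tensor_iff {R D W : Type u} [CommRing R] [CommRing D] [CommRing W] [Algebra R D] [Algebra R W]
    (γ : R) :
    EtAway D (D ⊗[R] W) (algebraMap R D γ) ↔
      Algebra.Etale D (D ⊗[R] (W ⊗[R] Localization.Away γ)) := by
  let C := D ⊗[R] W
  let Rγ := Localization.Away γ
  have e : D ⊗[R] (W ⊗[R] Rγ) ≃ₐ[D] C ⊗[R] Rγ :=
    (Algebra.TensorProduct.assoc R R D D W Rγ).symm
  have hsub : Algebra.algebraMapSubmonoid C (Submonoid.powers γ) =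
      Submonoid.powers (algebraMap D C (algebraMap R D γ)) := by
    rw [Algebra.algebraMapSubmonoid_powers, ← IsScalarTower.algebraMap_apply]
  haveI : IsLocalization.Away (algebraMap D C (algebraMap R D γ)) (C ⊗[R] Rγ) := by
    have := (inferInstance : IsLocalization (Algebra.algebraMapSubmonoid C (Submonoid.powers γ)) (C ⊗[R] Rγ))
    rwa [hsub] at this
  let e' : C ⊗[R] Rγ ≃ₐ[D] Localization.Away (algebraMap D C (algebraMap R D γ)) :=
    (IsLocalization.algEquiv (Submonoid.powers (algebraMap D C (algebraMap R D γ))) (C ⊗[R] Rγ) _).restrictScalars D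
  exact ⟨fun h => @Algebra.Etale.of_equiv _ _ _ _ _ _ _ _ h (e.trans e').symm,
    fun h => @Algebra.Etale.of_equiv _ _ _ _ _ _ _ _ h (e.trans e')⟩

/-- Being étale away from an element is invariant under isomorphism. -/
theorem etAway_of_algEquiv {D C C' : Type u} [CommRing D] [CommRing C] [CommRing C'] [Algebra D C] [Algebra D C']
    (e : C ≃ₐ[D] C') {g : D} (h : EtAway D C g) : EtAway D C' g := by
  let L := Localization.Away (algebraMap D C' g)
  letI : Algebra C L := ((algebraMap C' L).comp e.toRingEquiv.toRingHom).toAlgebra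
  haveI : IsScalarTower D C L := IsScalarTower.of_algebraMap_eq fun d => by
    show algebraMap D L d = algebraMap C' L (e (algebraMap D C d))
    rw [e.commutes, ← IsScalarTower.algebraMap_apply]
  haveI : IsLocalization.Away (algebraMap D C g) L := by
    have h1 := IsLocalization.isLocalization_of_base_ringEquiv (Submonoid.powers (algebraMap D C' g)) L e.symm.toRingEquiv
    rw [Submonoid.map_powers] at h1
    have hg : e.symm.toRingEquiv.toMonoidHom (algebraMap D C' g) = algebraMap D C g := e.symm.commutes g
    rw [show e.symm.toRingEquiv (algebraMap D C' g) = algebraMap D C g from hg] at h1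
    convert h1 using 2
  exact @Algebra.Etale.of_equiv _ _ _ _ _ _ _ _ h
    ((IsLocalization.algEquiv (Submonoid.powers (algebraMap D C g)) (Localization.Away (algebraMap D C g)) L).restrictScalars D)

set_option synthInstance.maxHeartbeats 400000 in
set_option maxHeartbeats 1600000 in
/-- Finiteness and étaleness away from finitely many elements descend to a finitely generated subalgebra. -/
theorem exists_stage {R B W : Type u} [CommRing R] [CommRing B] [CommRing W] [Algebra R B] [Algebra R W]
    [Algebra.FinitePresentation R W] [Module.Finite B (B ⊗[R] W)] {ι : Type} [Fintype ι] (γ : ι → R)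
    (hC : ∀ i, EtAway B (B ⊗[R] W) (algebraMap R B (γ i))) :
    ∃ D : Subalgebra R B, D.FG ∧ Module.Finite D (D ⊗[R] W) ∧
      ∀ i, EtAway D (D ⊗[R] W) (algebraMap R D (γ i)) := by
  classical
  have hcol := PopescuLib.Stage.isColim_adjoin R B
  obtain ⟨S0, hS0⟩ := DirColim.exists_finite hcol (C := W) inferInstance
  have hone : ∀ i, ∃ S : Finset B, ∀ T, DirColim.Trans
      (fun S : Finset B => (Algebra.adjoin R (S : Set B)).val) S T →
      Algebra.Etale (Algebra.adjoin R (T : Set B))
        (Algebra.adjoin R (T : Set B) ⊗[R] (W ⊗[R] Localization.Away (γ i))) := fun i => by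
    haveI : Algebra.FinitePresentation R (Localization.Away (γ i)) := IsLocalization.Away.finitePresentation (γ i)
    haveI : Algebra.FinitePresentation R (W ⊗[R] Localization.Away (γ i)) :=
      Algebra.FinitePresentation.trans R W _
    exact PopescuLib.Stage.exists_etale_eventually hcol ((etAway_tensor_iff (γ i)).1 (hC i))
  choose S hS using hone
  let T : Finset B := S0 ∪ Finset.univ.biUnion S
  refine ⟨Algebra.adjoin R (T : Set B), ⟨T, rfl⟩, ?_, fun i => ?_⟩
  · letI : Algebra (Algebra.adjoin R (S0 : Set B)) (Algebra.adjoin R (T : Set B)) := (Subalgebra.inclusion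
      (Algebra.adjoin_mono (Finset.coe_subset.mpr (Finset.subset_union_left (s₁ := S0))))).toRingHom.toAlgebra
    haveI : IsScalarTower R (Algebra.adjoin R (S0 : Set B)) (Algebra.adjoin R (T : Set B)) :=
      IsScalarTower.of_algebraMap_eq fun r => rfl
    haveI := hS0
    exact Module.Finite.equiv (Algebra.TensorProduct.cancelBaseChange R (Algebra.adjoin R (S0 : Set B))
      (Algebra.adjoin R (T : Set B)) (Algebra.adjoin R (T : Set B)) W).toLinearEquiv
  · exact (etAway_tensor_iff (γ i)).2 (hS i T ⟨Subalgebra.inclusion (Algebra.adjoin_mono (Finset.coe_subset.mpr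
      ((Finset.subset_biUnion_of_mem S (Finset.mem_univ i)).trans Finset.subset_union_right))), rfl⟩)

variable {A B : Type u} [CommRing A] [IsNoetherianRing A] [CommRing B] [IsNoetherianRing B] [Algebra A B]

set_option synthInstance.maxHeartbeats 400000 in
set_option maxHeartbeats 1600000 in
/-- A finite algebra which is étale away from finitely many elements comes from a finitely generated stage. -/
theorem exists_model (C : Type u) [CommRing C] [Algebra B C] [Module.Finite B C] {ι : Type} [Fintype ι]
    (g : ι → B) (hC : ∀ i, EtAway B C (g i)) :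
    ∃ (D : Type u) (_ : CommRing D) (_ : Algebra A D) (h : D →ₐ[A] B) (CD : Type u) (_ : CommRing CD)
      (_ : Algebra D CD) (γ : ι → D), Algebra.FiniteType A D ∧ Module.Finite D CD ∧
      (∀ i, h (γ i) = g i) ∧ Function.Injective h ∧ (∀ i, EtAway D CD (γ i)) ∧
      letI := h.toRingHom.toAlgebra
      Nonempty (B ⊗[D] CD ≃ₐ[B] C) := by
  classical
  haveI : Algebra.FinitePresentation B C := Algebra.FinitePresentation.of_finiteType.mp inferInstance
  obtain ⟨R0, W0, _, _, hR0, hT, hW0, ⟨e0⟩⟩ :=
    PopescuLib.Stage.exists_model (Λ := A) (Rh := B) (C1 := C) (Finset.univ.image g)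
  haveI := hR0
  haveI := hW0
  let γ0 : ι → R0 := fun i => ⟨g i, hT (by simp)⟩
  haveI : Module.Finite B (B ⊗[R0] W0) := Module.Finite.equiv e0.symm.toLinearEquiv
  obtain ⟨D, hDfg, hfin, het⟩ := exists_stage (R := R0) (B := B) (W := W0) γ0
    fun i => etAway_of_algEquiv e0.symm (hC i)
  haveI : Algebra.FiniteType R0 D := (Subalgebra.fg_iff_finiteType _).mp hDfg
  haveI : Algebra.FiniteType A D := Algebra.FiniteType.trans (S := R0) hR0 inferInstance
  refine ⟨D, inferInstance, inferInstance, (D.val).restrictScalars A, D ⊗[R0] W0, inferInstance, inferInstance,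
    fun i => algebraMap R0 D (γ0 i), inferInstance, hfin, fun i => rfl, Subtype.val_injective, het, ?_⟩
  letI : Algebra D B := ((D.val).restrictScalars A).toRingHom.toAlgebra
  haveI : IsScalarTower R0 D B := IsScalarTower.of_algebraMap_eq fun r => rfl
  exact ⟨(Algebra.TensorProduct.cancelBaseChange R0 D B B W0).trans e0⟩

/-- A finite algebra restricted to an open covered by the loci where it is étale. -/
theorem prop_snd_of_etAway {D CD : Type u} [CommRing D] [CommRing CD] [Algebra D CD] [Module.Finite D CD]
    {ι : Type} (γ : ι → D) (U : (Spec (CommRingCat.of D)).Opens)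
    (hU : ∀ y : PrimeSpectrum D, (y : ↥(Spec (CommRingCat.of D))) ∈ U ↔ ∃ i, γ i ∉ y.asIdeal)
    (h : ∀ i, EtAway D CD (γ i)) : FEt.prop (pullback.snd (sp D CD) U.ι) := by
  haveI : IsFinite (sp D CD) := (IsFinite.SpecMap_iff _).2 (RingHom.finite_algebraMap.2 inferInstance)
  refine ⟨MorphismProperty.pullback_snd _ _ inferInstance, ?_⟩
  let L : ι → Type u := fun i => Localization.Away (algebraMap D CD (γ i))
  have hlift : ∀ i, Set.range (sp CD (L i)) ⊆ Set.range (pullback.fst (sp D CD) U.ι) := fun i => by
    rw [Scheme.Pullback.range_fst, Scheme.Opens.range_ι]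
    rintro _ ⟨z, rfl⟩
    refine (hU _).2 ⟨i, fun hz => ?_⟩
    exact z.isPrime.ne_top (Ideal.eq_top_of_isUnit_mem _ hz (IsLocalization.Away.algebraMap_isUnit (S := L i) (algebraMap D CD (γ i))))
  haveI : ∀ i, IsOpenImmersion (sp CD (L i)) := fun i => IsOpenImmersion.of_isLocalization (algebraMap D CD (γ i))
  let ρ' : ∀ i, Spec (CommRingCat.of (L i)) ⟶ pullback (sp D CD) U.ι := fun i =>
    IsOpenImmersion.lift (pullback.fst (sp D CD) U.ι) (sp CD (L i)) (hlift i)
  have hρ' : ∀ i, ρ' i ≫ pullback.fst (sp D CD) U.ι = sp CD (L i) := fun i => IsOpenImmersion.lift_fac _ _ _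
  let 𝒰 : Scheme.OpenCover.{0} (pullback (sp D CD) U.ι) := Scheme.Cover.mkOfCovers ι
    (fun i => Spec (CommRingCat.of (L i))) ρ' (fun x => by
      let c : PrimeSpectrum CD := pullback.fst (sp D CD) U.ι x
      obtain ⟨i, hi⟩ := (hU (PrimeSpectrum.comap (algebraMap D CD) c)).1 (by
        have := (pullback.snd (sp D CD) U.ι x).2
        show (sp D CD (pullback.fst (sp D CD) U.ι x)) ∈ U
        rw [← Scheme.Hom.comp_apply, pullback.condition]
        exact this)
      obtain ⟨z, hz⟩ : c ∈ Set.range (PrimeSpectrum.comap (algebraMap CD (L i))) := by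
        rw [PrimeSpectrum.localization_away_comap_range (L i) (algebraMap D CD (γ i))]
        exact hi
      exact ⟨i, z, (pullback.fst (sp D CD) U.ι).isOpenEmbedding.injective
        (by rw [← Scheme.Hom.comp_apply, hρ']; exact hz)⟩)
    (fun i => by
      haveI : IsOpenImmersion (ρ' i ≫ pullback.fst (sp D CD) U.ι) := by rw [hρ']; infer_instance
      exact IsOpenImmersion.of_comp _ (pullback.fst (sp D CD) U.ι))
  refine MorphismProperty.of_postcomp (W := @Etale) (W' := @Etale) _ U.ι inferInstance ?_
  refine IsZariskiLocalAtSource.of_openCover (P := @Etale) 𝒰 fun i => ?_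
  show Etale (ρ' i ≫ pullback.snd (sp D CD) U.ι ≫ U.ι)
  rw [← pullback.condition, reassoc_of% hρ', ← Spec.map_comp, ← CommRingCat.ofHom_comp,
    ← IsScalarTower.algebraMap_eq]
  haveI : Algebra.Etale D (L i) := h i
  exact (HasRingHomProperty.Spec_iff (P := @Etale)).2 (RingHom.etale_algebraMap.2 inferInstance)

end Groth.Agent.Pi1PS

end
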