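import Groth.Agent.Pi1PS.SmoothScheme
import Groth.Agent.Pi1PS.Model
import Groth.Agent.S0595
import Groth.Agent.RegLoc6.Basic

/-!
# Purity for regular homomorphisms over a base of depth two
-/

set_option autoImplicit false
set_option linter.style.haveILetI false
set_option backward.isDefEq.respectTransparency false
set_option backward.isDefEq.respectTransparency.types false
universe u

open CategoryTheory CategoryTheory.Limits AlgebraicGeometry IsLocalRing TensorProduct

noncomputable section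

namespace Groth.Agent.Pi1PS

open Groth.Agent Pi1Ext.RegPurity Pi1Ext.PuritySch

variable {A : Type u} [CommRing A] [IsLocalRing A] [IsNoetherianRing A]

/-- A geometrically regular closed fibre is a domain. -/
theorem isPrime_map_maximalIdeal {B : Type u} [CommRing B] [IsLocalRing B] [IsNoetherianRing B] [Algebra A B]
    [IsLocalHom (algebraMap A B)]
    (hgeo : CAlg.IsGeometricallyRegular (maximalIdeal A).ResidueField ((maximalIdeal A).Fiber B)) :
    ((maximalIdeal A).map (algebraMap A B)).IsPrime := by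
  let I := (maximalIdeal A).map (algebraMap A B)
  have hI : I ≤ maximalIdeal B := ((local_hom_TFAE (algebraMap A B)).out 0 2).1 ‹IsLocalHom (algebraMap A B)›
  haveI : Nontrivial (B ⧸ I) := Ideal.Quotient.nontrivial_iff.2 (ne_top_of_le_ne_top (maximalIdeal.isMaximal B).ne_top hI)
  haveI : IsLocalRing (B ⧸ I) := IsLocalRing.of_surjective' (Ideal.Quotient.mk I) Ideal.Quotient.mk_surjective
  obtain ⟨e0⟩ := RegFS6.closedFibre_equiv_quot A B
  haveI : IsRegularLocalRing (B ⧸ I) := by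
    haveI := FlatLoc6.isRegularRing_of_geometricallyRegular hgeo
    haveI : IsLocalRing ((maximalIdeal A).Fiber B) := e0.symm.isLocalRing
    haveI : IsRegularLocalRing ((maximalIdeal A).Fiber B) := IsRegularLocalRing.of_isRegularRing_of_isLocalRing _
    exact IsRegularLocalRing.of_ringEquiv e0
  haveI := RegLoc6.isDomain_of_isRegularLocalRing (B ⧸ I)
  exact (Ideal.Quotient.isDomain_iff_prime I).1 inferInstance

/-- Purity for a regular homomorphism over a base of depth at least two. -/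
theorem purityHolds_of_regularHom (hA : (2 : ℕ∞) ≤ LocCoh.depth A A) (B : Type u) [CommRing B] [IsLocalRing B]
    [IsNoetherianRing B] [Algebra A B] [IsLocalHom (algebraMap A B)] (hreg : CAlg.IsRegularHom A B)
    (hne : (maximalIdeal A).map (algebraMap A B) ≠ maximalIdeal B) : FEt.PurityHolds B := by
  classical
  refine ⟨fun V => ?_⟩
  haveI hP := isPrime_map_maximalIdeal (hreg.2 (maximalIdeal A)).2
  let P := (maximalIdeal A).map (algebraMap A B)
  have hAB : P ≤ maximalIdeal B := ((local_hom_TFAE (algebraMap A B)).out 0 2).1 ‹IsLocalHom (algebraMap A B)›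
  have hcB : (maximalIdeal B).comap (algebraMap A B) = maximalIdeal A := IsLocalRing.maximalIdeal_comap _
  obtain ⟨C, _, _, hCfin, hC, ⟨eC⟩⟩ := exists_finite_model V
  haveI := hCfin
  obtain ⟨n, gB, hgB⟩ := Submodule.fg_iff_exists_fin_generating_family.1 (IsNoetherian.noetherian (maximalIdeal B))
  obtain ⟨m, a, ha⟩ := Submodule.fg_iff_exists_fin_generating_family.1 (IsNoetherian.noetherian (maximalIdeal A))
  let g : Fin n ⊕ Fin m → B := Sum.elim gB (algebraMap A B ∘ a)
  have hgm : ∀ i, g i ∈ maximalIdeal B := by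
    rintro (i | i)
    · exact hgB ▸ Submodule.subset_span ⟨i, rfl⟩
    · exact hAB (Ideal.mem_map_of_mem _ (ha ▸ Submodule.subset_span ⟨i, rfl⟩))
  have hmiss : ∀ q : Ideal B, q.IsPrime → q ≠ maximalIdeal B → ∃ i, g i ∉ q := fun q hq hne' => by
    by_contra! h
    refine hne' (le_antisymm (le_maximalIdeal hq.ne_top) ?_)
    rw [← hgB]
    exact Submodule.span_le.2 (Set.range_subset_iff.2 fun i => h (Sum.inl i))
  obtain ⟨D, _, _, h, CD, _, _, γ, hD, hCD, hγ, hinj, het, hiso⟩ :=
    exists_model (A := A) C g fun i => hC (g i) (hgm i)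
  haveI := hD
  haveI := hCD
  haveI : Algebra.FinitePresentation A D := Algebra.FinitePresentation.of_finiteType.mp inferInstance
  obtain ⟨Λ, _, _, hsm, f, k, hk⟩ := S0595.result A B hreg D h
  haveI := hsm
  haveI : IsNoetherianRing Λ := Algebra.FiniteType.isNoetherianRing A Λ
  -- the prime below the closed point
  let Q : Ideal Λ := (maximalIdeal B).comap k.toRingHom
  have hQA : Q.comap (algebraMap A Λ) = maximalIdeal A := by
    rw [Ideal.comap_comap]
    exact (congrArg (fun φ => (maximalIdeal B).comap φ) (RingHom.ext fun x => k.commutes x)).trans hcB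
  let ΛQ := Localization.AtPrime Q
  haveI : IsLocalHom (algebraMap A ΛQ) := ((local_hom_TFAE (algebraMap A ΛQ)).out 4 0).1 (by
    rw [IsScalarTower.algebraMap_eq A Λ ΛQ, ← Ideal.comap_comap,
      show Ideal.comap (algebraMap Λ ΛQ) (maximalIdeal ΛQ) = Q from Localization.AtPrime.comap_maximalIdeal, hQA])
  haveI : Algebra.FormallySmooth Λ ΛQ := Algebra.FormallySmooth.of_isLocalization Q.primeCompl
  haveI : Algebra.FormallySmooth A ΛQ := Algebra.FormallySmooth.comp A Λ ΛQ
  haveI hP0 := isPrime_map_maximalIdeal ((S2038.result (A := A) (B := ΛQ)).2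
    (isAdicFormallySmooth_of_formallySmooth (maximalIdeal ΛQ))).2
  let q0 : Ideal Λ := ((maximalIdeal A).map (algebraMap A ΛQ)).comap (algebraMap Λ ΛQ)
  let I := (maximalIdeal A).map (algebraMap A Λ)
  have hIq0 : I ≤ q0 := by
    rw [Ideal.map_le_iff_le_comap, Ideal.comap_comap, ← IsScalarTower.algebraMap_eq]
    exact Ideal.le_comap_map
  have hq0 : ∀ q : Ideal Λ, q.IsPrime → I ≤ q → q ≤ Q → q0 ≤ q := fun q hq hIq hqQ => by
    have hdisj : Disjoint (Q.primeCompl : Set Λ) q := Set.disjoint_left.2 fun x hx hxq => hx (hqQ hxq)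
    rw [← IsLocalization.comap_map_of_isPrime_disjoint Q.primeCompl ΛQ hq hdisj]
    refine Ideal.comap_mono ?_
    rw [IsScalarTower.algebraMap_eq A Λ ΛQ, ← Ideal.map_map]
    exact Ideal.map_mono hIq
  have hq0Q : q0 ≤ Q := by
    exact le_trans (Ideal.comap_mono (le_maximalIdeal hP0.ne_top)) (Localization.AtPrime.comap_maximalIdeal (I := Q)).le
  let q1 : Ideal Λ := P.comap k.toRingHom
  have hIq1 : I ≤ q1 := Ideal.map_le_iff_le_comap.2 fun x hx => by
    show k (algebraMap A Λ x) ∈ P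
    rw [k.commutes]; exact Ideal.mem_map_of_mem _ hx
  have hq01 : q0 ≤ q1 := hq0 q1 inferInstance hIq1 (Ideal.comap_mono hAB)
  -- shrink
  have hfin : {q ∈ I.minimalPrimes | q ≠ q0}.Finite := I.finite_minimalPrimes_of_isNoetherianRing.subset fun q hq => hq.1
  have hnle : ∀ q ∈ hfin.toFinset, ∃ x ∈ q, x ∉ Q := fun q hq => by
    obtain ⟨hqmin, hq0'⟩ := hfin.mem_toFinset.1 hq
    refine SetLike.not_le_iff_exists.1 fun hle => hq0' ?_
    exact le_antisymm (hqmin.2 ⟨inferInstance, hIq0⟩ (hq0 q hqmin.1.1 hqmin.1.2 hle)) (hq0 q hqmin.1.1 hqmin.1.2 hle)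
  choose x hx hxQ using hnle
  let t : Λ := ∏ q ∈ hfin.toFinset.attach, x q.1 q.2
  have htQ : t ∉ Q := fun hc => by
    obtain ⟨q, -, hq⟩ := (Ideal.IsPrime.prod_mem_iff).1 hc
    exact hxQ q.1 q.2 hq
  have ht0 : ∀ q : Ideal Λ, q.IsPrime → I ≤ q → t ∉ q → q0 ≤ q := fun q hq hIq htq => by
    obtain ⟨q', hq', hle⟩ := Ideal.exists_minimalPrimes_le hIq
    by_cases he : q' = q0
    · exact he ▸ hle
    · refine absurd (hle ?_) htq
      exact Ideal.prod_mem q' (Finset.mem_attach _ ⟨q', hfin.mem_toFinset.2 ⟨hq', he⟩⟩)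
        (hx q' (hfin.mem_toFinset.2 ⟨hq', he⟩))
  let Λt := Localization.Away t
  haveI : Algebra.Smooth Λ Λt := Algebra.Smooth.of_isLocalization_Away t
  haveI : Algebra.Smooth A Λt := Algebra.Smooth.comp A Λ Λt
  have hu : ∀ y : Submonoid.powers t, IsUnit (k y) := by
    rintro ⟨_, j, rfl⟩
    rw [map_pow]
    exact (not_not.1 fun hn => htQ hn).pow j
  let k' : Λt →ₐ[A] B := IsLocalization.liftAlgHom (M := Submonoid.powers t) (f := k) hu
  have hk' : ∀ z, k' (algebraMap Λ Λt z) = k z := fun z => IsLocalization.lift_eq hu z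
  let f' : D →ₐ[A] Λt := (IsScalarTower.toAlgHom A Λ Λt).comp f
  have hkf : ∀ d, k' (f' d) = h d := fun d => (hk' (f d)).trans (AlgHom.congr_fun hk d)
  -- the open
  let UD : (Spec (CommRingCat.of D)).Opens := ⨆ i, PrimeSpectrum.basicOpen (γ i)
  have hUD : ∀ y : PrimeSpectrum D, (y : ↥(Spec (CommRingCat.of D))) ∈ UD ↔ ∃ i, γ i ∉ y.asIdeal := fun y => by
    show y ∈ ⨆ i, PrimeSpectrum.basicOpen (γ i) ↔ _
    rw [TopologicalSpace.Opens.mem_iSup]
    rfl
  let sf := Spec.map (CommRingCat.ofHom f'.toRingHom)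
  let U' : (Spec (CommRingCat.of Λt)).Opens := sf ⁻¹ᵁ UD
  have hU' : ∀ y : PrimeSpectrum Λt, (y : ↥(Spec (CommRingCat.of Λt))) ∈ U' ↔ ∃ i, f' (γ i) ∉ y.asIdeal := fun y =>
    hUD (y.comap f'.toRingHom)
  let φ := sp A Λt
  haveI : Smooth φ := (HasRingHomProperty.Spec_iff (P := @Smooth)).2 (RingHom.smooth_algebraMap.2 inferInstance)
  have hoff : ∀ y : PrimeSpectrum Λt, y.asIdeal.comap (algebraMap A Λt) ≠ maximalIdeal A →
      (y : ↥(Spec (CommRingCat.of Λt))) ∈ U' := fun y hy => by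
    obtain ⟨j, hj⟩ : ∃ j, a j ∉ y.asIdeal.comap (algebraMap A Λt) := by
      by_contra! hall
      refine hy (le_antisymm (le_maximalIdeal Ideal.IsPrime.ne_top') ?_)
      rw [← ha]
      exact Submodule.span_le.2 (Set.range_subset_iff.2 hall)
    refine (hU' y).2 ⟨Sum.inr j, ?_⟩
    rw [show γ (Sum.inr j) = algebraMap A D (a j) from hinj ((hγ _).trans (h.commutes (a j)).symm), f'.commutes]
    exact hj
  have h3 : ∀ s : Spec (CommRingCat.of A), LocCoh.depth ((Spec (CommRingCat.of A)).presheaf.stalk s)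
      ((Spec (CommRingCat.of A)).presheaf.stalk s) ≤ 1 → φ.base ⁻¹' {s} ⊆ (U' : Set (Spec (CommRingCat.of Λt))) := by
    intro s hs y hy
    refine hoff y fun hc => ?_
    obtain rfl : s = closedPoint A := (show φ.base y = s from hy).symm.trans (PrimeSpectrum.ext hc)
    let S := (Spec (CommRingCat.of A)).presheaf.stalk (closedPoint A)
    letI : Algebra A S := (StructureSheaf.toStalk A _).hom.toAlgebra
    haveI : IsLocalization.AtPrime S (maximalIdeal A) := StructureSheaf.IsLocalization.to_stalk A _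
    let σ : A ≃ₐ[A] S := IsLocalization.atUnits A (maximalIdeal A).primeCompl fun z hz => not_not.1 hz
    have hd := Alg6.depth_eq_of_semilinear σ.toRingEquiv.toRingHom σ.surjective σ.toRingEquiv.toAddEquiv fun r z => map_mul σ r z
    exact absurd (le_trans hA (hd.le.trans hs)) (by decide)
  have h4 : ∀ s : Spec (CommRingCat.of A),
      φ.base ⁻¹' {s} ⊆ closure ((U' : Set (Spec (CommRingCat.of Λt))) ∩ φ.base ⁻¹' {s}) := by
    intro s y hy
    by_cases hc : (y : PrimeSpectrum Λt).asIdeal.comap (algebraMap A Λt) = maximalIdeal A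
    swap
    · exact subset_closure ⟨hoff y hc, hy⟩
    let yΛ : Ideal Λ := (y : PrimeSpectrum Λt).asIdeal.comap (algebraMap Λ Λt)
    have hle : q0 ≤ yΛ := ht0 yΛ inferInstance (by
      rw [Ideal.map_le_iff_le_comap, Ideal.comap_comap, ← IsScalarTower.algebraMap_eq, hc]) fun htm =>
        (y : PrimeSpectrum Λt).isPrime.ne_top (Ideal.eq_top_of_isUnit_mem _ htm (IsLocalization.Away.algebraMap_isUnit t))
    haveI hq0p : q0.IsPrime := inferInstance
    have htq0 : t ∉ q0 := fun hc' => htQ (hq0Q hc')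
    have hdisj : Disjoint (Submonoid.powers t : Set Λ) q0 := (Ideal.disjoint_powers_iff_notMem t hq0p.isRadical).2 htq0
    let η : PrimeSpectrum Λt := ⟨q0.map (algebraMap Λ Λt),
      IsLocalization.isPrime_of_isPrime_disjoint (Submonoid.powers t) Λt q0 hq0p hdisj⟩
    have hηc : η.asIdeal.comap (algebraMap Λ Λt) = q0 :=
      IsLocalization.comap_map_of_isPrime_disjoint (Submonoid.powers t) Λt hq0p hdisj
    have hηy : η.asIdeal ≤ (y : PrimeSpectrum Λt).asIdeal := Ideal.map_le_iff_le_comap.2 hle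
    have hηA : η.asIdeal.comap (algebraMap A Λt) = maximalIdeal A := by
      rw [IsScalarTower.algebraMap_eq A Λ Λt, ← Ideal.comap_comap, hηc]
      exact ((maximalIdeal.isMaximal A).eq_of_le (Ideal.comap_ne_top _ hq0p.ne_top)
        (Ideal.map_le_iff_le_comap.1 hIq0)).symm
    have hηU : (η : ↥(Spec (CommRingCat.of Λt))) ∈ U' := by
      obtain ⟨i, hi⟩ := hmiss P hP hne
      refine (hU' η).2 ⟨i, fun hm => hi ?_⟩
      have h1 : f (γ i) ∈ q1 := hq01 (hηc ▸ hm)
      rw [← hγ i, ← AlgHom.congr_fun hk (γ i)]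
      exact h1
    have hmem : (η : ↥(Spec (CommRingCat.of Λt))) ∈ (U' : Set (Spec (CommRingCat.of Λt))) ∩ φ.base ⁻¹' {s} :=
      ⟨hηU, Eq.trans (PrimeSpectrum.ext (hηA.trans hc.symm)) hy⟩
    exact closure_mono (Set.singleton_subset_iff.2 hmem)
      (specializes_iff_mem_closure.1 ((PrimeSpectrum.le_iff_specializes η (y : PrimeSpectrum Λt)).1 hηy))
  haveI := isEquivalence_restrict_of_smooth φ U' h3 h4
  -- the cover upstairs
  let oD : FEt.Cat (UD : Scheme.{u}) := MorphismProperty.Over.mk ⊤ (pullback.snd (sp D CD) UD.ι)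
    (prop_snd_of_etAway γ UD hUD het)
  let r : (U' : Scheme.{u}) ⟶ (UD : Scheme.{u}) := sf ∣_ UD
  let oΛ := (FEt.restrict r).obj oD
  let Y := (FEt.restrict U'.ι).objPreimage oΛ
  let eY := (FEt.restrict U'.ι).objObjPreimageIso oΛ
  -- pull back
  let pB := FEt.puncturedSpec B
  let sk := Spec.map (CommRingCat.ofHom k'.toRingHom)
  have hrg : Set.range (pB.ι ≫ sk) ⊆ Set.range U'.ι := by
    rw [Scheme.Opens.range_ι]
    rintro _ ⟨z, rfl⟩
    let y : PrimeSpectrum B := pB.ι z
    obtain ⟨i, hi⟩ := hmiss y.asIdeal y.isPrime fun e => z.2 (PrimeSpectrum.ext e)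
    refine (hU' (y.comap k'.toRingHom)).2 ⟨i, fun hm => hi ?_⟩
    rw [← hγ i, ← hkf]
    exact hm
  let ψ : (pB : Scheme.{u}) ⟶ (U' : Scheme.{u}) := IsOpenImmersion.lift U'.ι (pB.ι ≫ sk) hrg
  have hψ : ψ ≫ U'.ι = pB.ι ≫ sk := IsOpenImmersion.lift_fac _ _ _
  letI : Algebra D B := h.toRingHom.toAlgebra
  obtain ⟨e⟩ := hiso
  have hψr : (ψ ≫ r) ≫ UD.ι = pB.ι ≫ sp D B := by
    rw [Category.assoc, morphismRestrict_ι, reassoc_of% hψ, ← Spec.map_comp, ← CommRingCat.ofHom_comp]
    congr 3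
    exact RingHom.ext hkf
  have hpo : IsPullback (Spec.map (CommRingCat.ofHom (Algebra.TensorProduct.includeRight : CD →ₐ[D] B ⊗[D] CD).toRingHom))
      (sp B (B ⊗[D] CD)) (sp D CD) (sp D B) :=
    (isPullback_SpecMap_of_isPushout _ _ _ _ (CommRingCat.isPushout_tensorProduct D B CD)).flip
  let se := Spec.map (CommRingCat.ofHom e.toRingEquiv.toRingHom)
  haveI : IsIso se := by
    haveI : IsIso (CommRingCat.ofHom e.toRingEquiv.toRingHom) := (ConcreteCategory.isIso_iff_bijective _).2 e.bijective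
    infer_instance
  have hse : se ≫ sp B (B ⊗[D] CD) = sp B C ≫ 𝟙 _ := by
    rw [Category.comp_id, ← Spec.map_comp, ← CommRingCat.ofHom_comp]
    congr 2
    exact RingHom.ext fun b => e.commutes b
  have hpoC := (IsPullback.of_horiz_isIso ⟨hse⟩).paste_horiz hpo
  rw [Category.id_comp] at hpoC
  have hB1 : IsPullback (pullback.fst (pullback.snd (sp D CD) UD.ι) (ψ ≫ r) ≫ pullback.fst (sp D CD) UD.ι)
      (pullback.snd (pullback.snd (sp D CD) UD.ι) (ψ ≫ r)) (sp D CD) (pB.ι ≫ sp D B) := by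
    have h1 := (IsPullback.of_hasPullback (pullback.snd (sp D CD) UD.ι) (ψ ≫ r)).paste_horiz (IsPullback.of_hasPullback (sp D CD) UD.ι)
    rwa [hψr] at h1
  have hB2 : IsPullback (pullback.fst (sp B C) pB.ι ≫ _) (rest B C) (sp D CD) (pB.ι ≫ sp D B) :=
    (IsPullback.of_hasPullback (sp B C) pB.ι).paste_horiz hpoC
  let e1 : (FEt.restrict (ψ ≫ r)).obj oD ≅ obj C (prop_rest C hC) :=
    MorphismProperty.Over.isoMk (hB1.isoIsPullback _ _ hB2) (hB1.isoIsPullback_hom_snd _ _ hB2)
  exact ⟨(FEt.restrict sk).obj Y, ⟨Pi1Alg.restrictSquare pB.ι sk ψ U'.ι hψ.symm Y ≪≫ (FEt.restrict ψ).mapIso eY ≪≫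
    Pi1Alg.restrictComp ψ r _ rfl oD ≪≫ e1 ≪≫ eC⟩⟩

end Groth.Agent.Pi1PS

end
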