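import Groth.Agent.Pi1PS.FSPurity
import Groth.Agent.EtDescX.Gonflement
import Groth.Agent.S9318
import Groth.Agent.LC.CanonComplete

/-!
# Purity for smooth algebras over a base of depth two
-/

set_option autoImplicit false
set_option linter.style.haveILetI false
set_option backward.isDefEq.respectTransparency false
set_option backward.isDefEq.respectTransparency.types false
universe u

open IsLocalRing TensorProduct

noncomputable section

namespace Groth.Agent.Pi1PS

open Groth.Agent

theorem isAdicFormallySmooth_of_formallySmooth {A B : Type u} [CommRing A] [CommRing B] [Algebra A B]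
    [Algebra.FormallySmooth A B] (I : Ideal B) : CAlgX.IsAdicFormallySmooth A B I :=
  fun C _ _ J hJ ψ _ => ⟨Algebra.FormallySmooth.lift J ⟨2, hJ⟩ ψ, Algebra.FormallySmooth.comp_lift J ⟨2, hJ⟩ ψ⟩

/-- An unramified faithfully flat complete algebra with algebraically closed residue field. -/
theorem exists_complete_algClosed' (A : Type u) [CommRing A] [IsNoetherianRing A] [IsLocalRing A] :
    ∃ (C : Type u) (_ : CommRing C) (_ : Algebra A C), Module.FaithfullyFlat A C ∧ ∃ (_ : IsNoetherianRing C)
      (_ : IsLocalRing C) (_ : IsAdicComplete (maximalIdeal C) C), IsAlgClosed (ResidueField C) ∧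
        (maximalIdeal A).map (algebraMap A C) = maximalIdeal C := by
  obtain ⟨B, _, _, hBn, hBl, hloc, hflat, e, -⟩ := S2363.result (A := A) (AlgebraicClosure (ResidueField A))
  have := hBn; have := hBl; have := hloc; have := hflat
  have : Module.FaithfullyFlat A B := Module.FaithfullyFlat.of_flat_of_isLocalHom
  have hmax : (maximalIdeal A).map (algebraMap A B) = maximalIdeal B :=
    eq_maximalIdeal (Ideal.Quotient.maximal_of_isField _ (e.toMulEquiv.isField (Field.toIsField _)))
  let C := AdicCompletion (maximalIdeal B) B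
  have : IsNoetherianRing C := LC.Canon.isNoetherianRing_completion
  have : Module.FaithfullyFlat B C := LC.Canon.faithfullyFlat_completion
  refine ⟨C, inferInstance, inferInstance, Module.FaithfullyFlat.trans A B C, inferInstance, inferInstance,
    inferInstance, ?_, ?_⟩
  · exact IsAlgClosed.of_ringEquiv _ _ ((e.symm.trans (Ideal.quotEquivOfEq hmax)).trans
      (RingEquiv.ofBijective _ (AdicCompletion.residueField_map_bijective B)))
  · rw [IsScalarTower.algebraMap_eq A B C, ← Ideal.map_map, hmax]
    exact (AdicCompletion.maximalIdeal_eq_map_of_fg (IsNoetherian.noetherian (maximalIdeal B))).symm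

variable {A : Type u} [CommRing A] [IsLocalRing A] [IsNoetherianRing A]

/-- The depth does not drop along a flat local map. -/
theorem two_le_depth_of_flat (hA : (2 : ℕ∞) ≤ LocCoh.depth A A) (B : Type u) [CommRing B] [IsLocalRing B]
    [IsNoetherianRing B] [Algebra A B] [IsLocalHom (algebraMap A B)] [Module.Flat A B] :
    (2 : ℕ∞) ≤ LocCoh.depth B B := by
  have hne : maximalIdeal A • (⊤ : Submodule A A) ≠ ⊤ := by
    rw [Ideal.smul_eq_mul, Ideal.mul_top]; exact (maximalIdeal.isMaximal A).ne_top
  obtain ⟨rs, hrs, hmem, hlen⟩ := Alg6.exists_length_ge_of_le_idealDepth hne (n := 2) (by exact_mod_cast hA)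
  have h := Alg6.length_le_idealDepth (I := maximalIdeal B) (rs := rs.map (algebraMap A B))
    (RingTheory.Sequence.IsWeaklyRegular.of_flat (S := B) hrs) (fun r hr => by
      obtain ⟨a, ha, rfl⟩ := List.mem_map.1 hr
      exact map_nonunit (algebraMap A B) a (hmem a ha))
  refine le_trans ?_ h
  rw [List.length_map]
  exact_mod_cast hlen

/-- Purity for a formally smooth local algebra over a complete base with perfect residue field. -/
theorem purityHolds_of_perfect [IsAdicComplete (maximalIdeal A) A] [PerfectField (ResidueField A)]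
    (hA : (2 : ℕ∞) ≤ LocCoh.depth A A) (B : Type u) [CommRing B] [IsLocalRing B]
    [IsNoetherianRing B] [Algebra A B] [IsLocalHom (algebraMap A B)]
    (hfs : CAlgX.IsAdicFormallySmooth A B (maximalIdeal B))
    (hne : (maximalIdeal A).map (algebraMap A B) ≠ maximalIdeal B) : FEt.PurityHolds B := by
  haveI := ((S2038.result (A := A) (B := B)).2 hfs).1
  let C := AdicCompletion (maximalIdeal B) B
  haveI : IsNoetherianRing C := LC.Canon.isNoetherianRing_completion
  haveI : Module.FaithfullyFlat B C := LC.Canon.faithfullyFlat_completion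
  have hm : (maximalIdeal B).map (algebraMap B C) = maximalIdeal C :=
    (AdicCompletion.maximalIdeal_eq_map_of_fg (IsNoetherian.noetherian (maximalIdeal B))).symm
  have hle : (maximalIdeal A).map (algebraMap A C) ≤ maximalIdeal C := by
    rw [IsScalarTower.algebraMap_eq A B C, ← Ideal.map_map, ← hm]
    exact Ideal.map_mono (((local_hom_TFAE (algebraMap A B)).out 0 2).1 ‹IsLocalHom (algebraMap A B)›)
  haveI : IsLocalHom (algebraMap A C) := ((local_hom_TFAE (algebraMap A C)).out 2 0).1 hle
  have hfsC : CAlgX.IsAdicFormallySmooth A C (maximalIdeal C) := by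
    rw [← hm]
    exact (S9318.result (maximalIdeal B) (IsNoetherian.noetherian _)).1 hfs
  refine Pi1Alg.purityHolds_of_flat (two_le_depth_of_flat hA B) hm.le (hm.ge.trans Ideal.le_radical)
    (purityHolds_complete_of_perfect hA hfsC fun h => hne ?_)
  rw [IsScalarTower.algebraMap_eq A B C, ← Ideal.map_map, ← hm] at h
  have h1 := congrArg (Ideal.comap (algebraMap B C)) h
  rwa [Ideal.comap_map_eq_self_of_faithfullyFlat, Ideal.comap_map_eq_self_of_faithfullyFlat] at h1

/-- Purity for a local ring essentially smooth over a base of depth at least two. -/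
theorem purityHolds_of_essSmooth (hA : (2 : ℕ∞) ≤ LocCoh.depth A A) (B : Type u) [CommRing B] [IsLocalRing B]
    [IsNoetherianRing B] [Algebra A B] [IsLocalHom (algebraMap A B)]
    [Algebra.EssFiniteType A B] [Algebra.FormallySmooth A B]
    (hne : (maximalIdeal A).map (algebraMap A B) ≠ maximalIdeal B) : FEt.PurityHolds B := by
  haveI := ((S2038.result (A := A) (B := B)).2 (isAdicFormallySmooth_of_formallySmooth (maximalIdeal B))).1
  obtain ⟨A1, _, _, hff, _, _, _, hac, hmA⟩ := exists_complete_algClosed' A
  haveI := hff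
  haveI := hac
  have hA1 : (2 : ℕ∞) ≤ LocCoh.depth A1 A1 := two_le_depth_of_flat hA A1
  let D := A1 ⊗[A] B
  letI : Algebra B D := Algebra.TensorProduct.rightAlgebra
  haveI : IsScalarTower A B D := IsScalarTower.of_algebraMap_eq fun a =>
    ((Algebra.TensorProduct.includeRight (R := A) (A := A1) (B := B)).commutes a).symm
  haveI : IsNoetherianRing D := Algebra.EssFiniteType.isNoetherianRing A1 D
  haveI : Module.FaithfullyFlat B D := Module.FaithfullyFlat.of_linearEquiv B (B ⊗[A] A1)
    (Algebra.TensorProduct.commRight A B A1).symm.toLinearEquiv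
  obtain ⟨P, hP, hPB⟩ := SkDesc.exists_minimal_over (R := B) D (maximalIdeal B)
  haveI := hP.1.1
  let B1 := Localization.AtPrime P
  haveI : Module.Flat B B1 := Module.Flat.trans B D B1
  have hmB : (maximalIdeal B).map (algebraMap B B1) ≤ maximalIdeal B1 := by
    rw [IsScalarTower.algebraMap_eq B D B1, ← Ideal.map_map, ← Localization.AtPrime.map_eq_maximalIdeal]
    exact Ideal.map_mono hP.1.2
  haveI : IsLocalHom (algebraMap B B1) := ((local_hom_TFAE (algebraMap B B1)).out 2 0).1 hmB
  have hcB : (maximalIdeal B1).comap (algebraMap B B1) = maximalIdeal B :=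
    IsLocalRing.maximalIdeal_comap (algebraMap B B1)
  haveI : Module.FaithfullyFlat B B1 := Module.FaithfullyFlat.of_flat_of_isLocalHom
  have hrad : maximalIdeal B1 ≤ ((maximalIdeal B).map (algebraMap B B1)).radical := by
    rw [Ideal.radical_eq_sInf]
    refine le_sInf fun Q ⟨hQ, hQp⟩ => ?_
    haveI := hQp
    rw [← Localization.AtPrime.map_eq_maximalIdeal, Ideal.map_le_iff_le_comap]
    refine hP.2 ⟨inferInstance, ?_⟩ fun x hx => ?_
    · rw [Ideal.map_le_iff_le_comap, Ideal.comap_comap, ← IsScalarTower.algebraMap_eq, ← Ideal.map_le_iff_le_comap]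
      exact hQ
    · by_contra hxP
      exact hQp.ne_top (Ideal.eq_top_of_isUnit_mem _ hx (IsLocalization.map_units _ (⟨x, hxP⟩ : P.primeCompl)))
  haveI : Algebra.FormallySmooth D B1 := Algebra.FormallySmooth.of_isLocalization P.primeCompl
  haveI : Algebra.FormallySmooth A1 B1 := Algebra.FormallySmooth.comp A1 D B1
  have hAB1 : ((algebraMap A1 B1).comp (algebraMap A A1)) = (algebraMap B B1).comp (algebraMap A B) := by
    rw [← IsScalarTower.algebraMap_eq, IsScalarTower.algebraMap_eq B D B1, RingHom.comp_assoc,
      ← IsScalarTower.algebraMap_eq A B D, ← IsScalarTower.algebraMap_eq A D B1]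
  haveI : IsLocalHom (algebraMap A1 B1) := by
    refine ((local_hom_TFAE (algebraMap A1 B1)).out 4 0).1 ?_
    have h1 : ((maximalIdeal B1).comap (algebraMap A1 B1)).comap (algebraMap A A1) = maximalIdeal A := by
      rw [Ideal.comap_comap, hAB1, ← Ideal.comap_comap,
        hcB,
        IsLocalRing.maximalIdeal_comap (algebraMap A B)]
    refine (maximalIdeal.isMaximal A1).eq_of_le ?_ ?_ |>.symm
    · exact Ideal.comap_ne_top _ (maximalIdeal.isMaximal B1).ne_top
    · rw [← hmA, Ideal.map_le_iff_le_comap, h1]
  refine Pi1Alg.purityHolds_of_flat (two_le_depth_of_flat hA B) hmB hrad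
    (purityHolds_of_perfect hA1 B1 (isAdicFormallySmooth_of_formallySmooth _) fun h => hne ?_)
  have h1 : ((maximalIdeal A).map (algebraMap A B)).map (algebraMap B B1) = maximalIdeal B1 := by
    rw [Ideal.map_map, ← hAB1, ← Ideal.map_map, hmA, h]
  have h2 := congrArg (Ideal.comap (algebraMap B B1)) h1
  rwa [Ideal.comap_map_eq_self_of_faithfullyFlat,
    hcB] at h2

end Groth.Agent.Pi1PS

end
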