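import Groth.Agent.Pi1PS.SmoothPurity
import Groth.Agent.Pi1PS.Glue
import Groth.Agent.AffineNhd.Glue
import Mathlib.AlgebraicGeometry.Morphisms.Smooth
import Mathlib.AlgebraicGeometry.Fiber

/-!
# Purity for smooth morphisms over a base of depth two
-/

set_option autoImplicit false
set_option linter.style.haveILetI false
set_option backward.isDefEq.respectTransparency false
set_option backward.isDefEq.respectTransparency.types false
universe u

open CategoryTheory CategoryTheory.Limits AlgebraicGeometry TopologicalSpace IsLocalRing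

noncomputable section

namespace Groth.Agent.Pi1PS

open Groth.Agent

/-- An open containing all points of depth less than two is dense. -/
theorem dense_of_depth {X : Scheme.{u}} [IsLocallyNoetherian X] (U : X.Opens)
    (hd : ∀ x : X, x ∉ U → (2 : ℕ∞) ≤ LocCoh.depth (X.presheaf.stalk x) (X.presheaf.stalk x)) :
    Dense (U : Set X) := fun x => by
  obtain ⟨q, hq, -⟩ := Ideal.exists_minimalPrimes_le (bot_le : ⊥ ≤ maximalIdeal (X.presheaf.stalk x))
  haveI := hq.1.1
  let q' : PrimeSpectrum (X.presheaf.stalk x) := ⟨q, inferInstance⟩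
  let η : X := X.fromSpecStalk x q'
  have hηx : η ⤳ x := (Scheme.range_fromSpecStalk (X := X)).subset ⟨q', rfl⟩
  have hη : η ∈ U := by
    by_contra hn
    have hall : ∀ P : PrimeSpectrum (X.presheaf.stalk η), P = closedPoint (X.presheaf.stalk η) := fun P => by
      apply (X.fromSpecStalk η).isEmbedding.injective
      refine Eq.trans ?_ Scheme.fromSpecStalk_closedPoint.symm
      have h1 : (X.fromSpecStalk η) P ⤳ η := (Scheme.range_fromSpecStalk (X := X)).subset ⟨P, rfl⟩
      obtain ⟨Q, hQ⟩ : (X.fromSpecStalk η) P ∈ Set.range (X.fromSpecStalk x) :=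
        (Scheme.range_fromSpecStalk (X := X)).ge (h1.trans hηx)
      rw [← hQ] at h1 ⊢
      have h2 : (Q : ↥(Spec (X.presheaf.stalk x))) ⤳ q' := (X.fromSpecStalk x).isEmbedding.specializes_iff.1 h1
      have h3 : (Q : PrimeSpectrum (X.presheaf.stalk x)).asIdeal ≤ q := (PrimeSpectrum.le_iff_specializes _ _).2 h2
      exact congrArg (X.fromSpecStalk x) (PrimeSpectrum.ext (le_antisymm h3 (hq.2 ⟨PrimeSpectrum.isPrime _, bot_le⟩ h3)))
    haveI : Ring.KrullDimLE 0 (X.presheaf.stalk η) := by
      rw [Ring.krullDimLE_zero_iff]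
      intro P hP
      rw [show P = maximalIdeal (X.presheaf.stalk η) from congrArg PrimeSpectrum.asIdeal (hall ⟨P, hP⟩)]
      exact maximalIdeal.isMaximal _
    have h0 : ringKrullDim (X.presheaf.stalk η) ≤ 0 := Ring.krullDimLE_iff.1 inferInstance
    have h1 := LC.depth_le_supportDim (R := X.presheaf.stalk η) (X.presheaf.stalk η)
    rw [Module.supportDim_self_eq_ringKrullDim] at h1
    have : (2 : ℕ∞) ≤ 0 := (hd η hn).trans (WithBot.coe_le_coe.1 (h1.trans h0))
    exact absurd this (by decide)
  exact closure_mono (Set.singleton_subset_iff.2 hη) (specializes_iff_mem_closure.1 hηx)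

/-- A point which is generic in its fibre lies in every fibrewise dense open. -/
theorem map_maximalIdeal_ne_of_not_mem {X S : Scheme.{u}} (f : X ⟶ S) [LocallyOfFiniteType f] (U : X.Opens)
    (h4 : ∀ s : S, f.base ⁻¹' {s} ⊆ closure ((U : Set X) ∩ f.base ⁻¹' {s})) (x : X) (hx : x ∉ U) :
    (maximalIdeal (S.presheaf.stalk (f.base x))).map (f.stalkMap x).hom ≠ maximalIdeal (X.presheaf.stalk x) := by
  intro hmax
  let s := f.base x
  let F := f.fiber s
  let ι := f.fiberι s
  haveI : IsLocallyNoetherian F := LocallyOfFiniteType.isLocallyNoetherian (f.fiberToSpecResidueField s)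
  let U' : F.Opens := ι ⁻¹ᵁ U
  obtain ⟨x', hx'⟩ : x ∈ Set.range ι := by rw [f.range_fiberι]; rfl
  have hcl : x' ∈ closure (U'.ι.base '' Set.univ) := by
    rw [Set.image_univ, Scheme.Opens.range_ι, ι.isEmbedding.isInducing.closure_eq_preimage_closure_image,
      Set.mem_preimage, hx']
    refine closure_mono ?_ (h4 s (show x ∈ f.base ⁻¹' {s} from rfl))
    rintro y ⟨hyU, hys⟩
    obtain ⟨y', rfl⟩ : y ∈ Set.range ι := by rw [f.range_fiberι]; exact hys
    exact ⟨y', hyU, rfl⟩
  obtain ⟨z, -, hz⟩ := ProConsLib.exists_specializes_of_mem_closure_image_scheme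
    (ProConsLib.isProConstructible_of_isLocallyClosed isClosed_univ.isLocallyClosed fun V hV => by
      rw [Set.univ_inter]; exact hV.isCompact) U'.ι hcl
  let e : X := ι (U'.ι z)
  have heU : e ∈ U := z.2
  have hes : f.base e = s := (f.range_fiberι s).le ⟨U'.ι z, rfl⟩
  have hex : e ⤳ x := hx' ▸ hz.map ι.continuous
  obtain ⟨P, hP⟩ : e ∈ Set.range (X.fromSpecStalk x) := (Scheme.range_fromSpecStalk (X := X)).ge hex
  have h1 : Spec.map (f.stalkMap x) P = closedPoint (S.presheaf.stalk s) := by
    apply (S.fromSpecStalk s).isEmbedding.injective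
    rw [Scheme.fromSpecStalk_closedPoint, ← Scheme.Hom.comp_apply, Scheme.SpecMap_stalkMap_fromSpecStalk,
      Scheme.Hom.comp_apply, hP]
    exact hes
  have h2 : maximalIdeal (X.presheaf.stalk x) ≤ (P : PrimeSpectrum (X.presheaf.stalk x)).asIdeal := by
    rw [← hmax, Ideal.map_le_iff_le_comap]
    exact (congrArg PrimeSpectrum.asIdeal h1).ge
  have h3 : P = closedPoint (X.presheaf.stalk x) :=
    PrimeSpectrum.ext (le_antisymm (le_maximalIdeal (PrimeSpectrum.isPrime _).ne_top) h2)
  rw [h3, Scheme.fromSpecStalk_closedPoint] at hP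
  exact hx (hP ▸ heU)

/-- Restriction to a fibrewise dense open containing the fibres over points of depth at most one. -/
theorem isEquivalence_restrict_of_smooth {X S : Scheme.{u}} (f : X ⟶ S) [Smooth f] [IsLocallyNoetherian S] (U : X.Opens)
    (h3 : ∀ s : S, LocCoh.depth (S.presheaf.stalk s) (S.presheaf.stalk s) ≤ 1 → f.base ⁻¹' {s} ⊆ (U : Set X))
    (h4 : ∀ s : S, f.base ⁻¹' {s} ⊆ closure ((U : Set X) ∩ f.base ⁻¹' {s})) :
    (FEt.restrict U.ι).IsEquivalence := by
  haveI : IsLocallyNoetherian X := LocallyOfFiniteType.isLocallyNoetherian f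
  have hA : ∀ x : X, x ∉ U → (2 : ℕ∞) ≤ LocCoh.depth (S.presheaf.stalk (f.base x)) (S.presheaf.stalk (f.base x)) :=
    fun x hx => by
      by_contra hlt
      have hlt' : LocCoh.depth (S.presheaf.stalk (f.base x)) (S.presheaf.stalk (f.base x)) < 1 + 1 := by
        rw [one_add_one_eq_two]; exact not_le.1 hlt
      exact hx (h3 _ ((ENat.lt_add_one_iff (by simp)).1 hlt') rfl)
  have key : ∀ x : X, x ∉ U → (2 : ℕ∞) ≤ LocCoh.depth (X.presheaf.stalk x) (X.presheaf.stalk x) ∧
      FEt.PurityHolds (X.presheaf.stalk x) := fun x hx => by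
    letI : Algebra (S.presheaf.stalk (f.base x)) (X.presheaf.stalk x) := (f.stalkMap x).hom.toAlgebra
    haveI : IsLocalHom (algebraMap (S.presheaf.stalk (f.base x)) (X.presheaf.stalk x)) :=
      inferInstanceAs <| IsLocalHom (f.stalkMap x).hom
    haveI : Module.Flat (S.presheaf.stalk (f.base x)) (X.presheaf.stalk x) := Flat.stalkMap f x
    haveI : Algebra.EssFiniteType (S.presheaf.stalk (f.base x)) (X.presheaf.stalk x) := by
      rw [← RingHom.essFiniteType_algebraMap, RingHom.algebraMap_toAlgebra]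
      exact LocallyOfFiniteType.stalkMap f x
    haveI : Algebra.FormallySmooth (S.presheaf.stalk (f.base x)) (X.presheaf.stalk x) :=
      Scheme.Hom.mem_smoothLocus.1 (f.smoothLocus_eq_top.ge (Set.mem_univ x))
    exact ⟨two_le_depth_of_flat (hA x hx) _,
      purityHolds_of_essSmooth (hA x hx) _ (map_maximalIdeal_ne_of_not_mem f U h4 x hx)⟩
  have hd := fun x hx => (key x hx).1
  obtain ⟨hF, hFa⟩ := Pi1X.restrict_open_full_faithful U (dense_of_depth U hd) hd
  haveI := hF; haveI := hFa
  haveI := essSurj_of_purity U hd fun x hx => (key x hx).2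
  exact {}

end Groth.Agent.Pi1PS

end
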