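import Groth.Agent.Pi1PS.FFStep
import Groth.Agent.LC.DepthExt
import Mathlib.RingTheory.MvPowerSeries.Equiv
import Mathlib.RingTheory.AdicCompletion.Topology

/-!
# Towers of complete regular divisors and power series rings
-/

set_option autoImplicit false
set_option linter.style.haveILetI false
set_option backward.isDefEq.respectTransparency false
set_option backward.isDefEq.respectTransparency.types false
universe u

open CategoryTheory CategoryTheory.Limits AlgebraicGeometry IsLocalRing TopologicalSpace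

noncomputable section

namespace Groth.Agent.Pi1PS

open Groth.Agent Pointwise

/-- `q : B → A` is cut out by `n` successive complete regular divisors. -/
def IsTower {A : Type u} [CommRing A] : ℕ → ∀ (B : Type u) [CommRing B] [IsLocalRing B], (B →+* A) → Prop
  | 0 => fun _ _ _ q => Function.Bijective q
  | n + 1 => fun B _ _ q => ∃ (B' : Type u) (_ : CommRing B') (_ : IsLocalRing B') (_ : IsNoetherianRing B')
      (g : B →+* B') (q' : B' →+* A) (f : B), q = q'.comp g ∧ Function.Surjective g ∧
        RingHom.ker g = Ideal.span {f} ∧ f ∈ maximalIdeal B ∧ f ∈ nonZeroDivisors B ∧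
        IsAdicComplete (Ideal.span {f}) B ∧ IsTower n B' q'

variable {A : Type u} [CommRing A]

theorem IsTower.surjective : ∀ {n : ℕ} {B : Type u} [CommRing B] [IsLocalRing B] {q : B →+* A},
    IsTower n B q → Function.Surjective q := by
  intro n
  induction n with
  | zero => intro B _ _ q h; exact h.2
  | succ n ih =>
    intro B _ _ q h
    obtain ⟨B', _, _, _, g, q', f, rfl, hg, -, -, -, -, h'⟩ := h
    exact (ih h').comp hg

theorem IsTower.exists_gens : ∀ {n : ℕ} {B : Type u} [CommRing B] [IsLocalRing B] {q : B →+* A},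
    IsTower n B q → ∃ S : Set B, S.encard ≤ n ∧ RingHom.ker q = Ideal.span S := by
  intro n
  induction n with
  | zero =>
    intro B _ _ q h
    exact ⟨∅, by simp, by rw [Ideal.span_empty]; exact (RingHom.injective_iff_ker_eq_bot q).1 h.1⟩
  | succ n ih =>
    intro B _ _ q h
    obtain ⟨B', _, _, _, g, q', f, rfl, hg, hker, -, -, -, h'⟩ := h
    obtain ⟨S', hS', hS'k⟩ := ih h'
    choose l hl using hg
    refine ⟨insert f (l '' S'), (Set.encard_insert_le _ _).trans ?_, ?_⟩
    · calc (l '' S').encard + 1 ≤ S'.encard + 1 := add_le_add (Set.encard_image_le l S') le_rfl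
        _ ≤ (n : ℕ∞) + 1 := add_le_add hS' le_rfl
        _ = ((n + 1 : ℕ) : ℕ∞) := by push_cast; rfl
    · have hgs : Function.Surjective g := fun y => ⟨l y, hl y⟩
      have h1 : RingHom.ker (q'.comp g) = (Ideal.span (l '' S')) ⊔ RingHom.ker g := by
        have h2 : (Ideal.span (l '' S')).map g = Ideal.span S' := by
          rw [Ideal.map_span, ← Set.image_comp]
          simp [Function.comp_def, hl]
        rw [← RingHom.comap_ker, hS'k, ← h2, Ideal.comap_map_of_surjective g hgs, ← RingHom.ker_eq_comap_bot]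
      rw [h1, hker, ← Ideal.span_union, Set.union_comm]
      rfl

/-- A divisor lowers the depth by one. -/
theorem succ_le_depth {B : Type u} [CommRing B] [IsLocalRing B] [IsNoetherianRing B] {B' : Type u} [CommRing B']
    [IsLocalRing B'] (g : B →+* B') (hg : Function.Surjective g) {f : B} (hker : RingHom.ker g = Ideal.span {f})
    (hf : f ∈ maximalIdeal B) (hnz : f ∈ nonZeroDivisors B) {k : ℕ} (h : (k : ℕ∞) ≤ LocCoh.depth B' B') :
    ((k + 1 : ℕ) : ℕ∞) ≤ LocCoh.depth B B := by
  have hreg : IsSMulRegular B f := fun a b hab => (mul_cancel_left_mem_nonZeroDivisors hnz).1 hab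
  have hsub : f • (⊤ : Submodule B B) = RingHom.ker g := by
    rw [hker, ← Submodule.ideal_span_singleton_smul, Ideal.smul_eq_mul, Ideal.mul_top]
  let e : QuotSMulTop f B ≃+ B' :=
    (Submodule.quotEquivOfEq _ _ hsub).toAddEquiv.trans (RingHom.quotientKerEquivOfSurjective hg).toAddEquiv
  have h1 : LocCoh.depth B (QuotSMulTop f B) = LocCoh.depth B' B' :=
    Alg6.depth_eq_of_semilinear g hg e fun r x => by
      obtain ⟨x, rfl⟩ := Submodule.Quotient.mk_surjective _ x
      show g (r * x) = g r * g x
      exact map_mul g r x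
  have h2 := LC.idealDepth_quotSMulTop_add_one (maximalIdeal B) (M := B) hf hreg
  show ((k + 1 : ℕ) : ℕ∞) ≤ LocCoh.idealDepth (maximalIdeal B) B
  rw [← h2]
  push_cast
  exact add_le_add (h.trans h1.ge) le_rfl

theorem IsTower.le_depth [IsLocalRing A] {k : ℕ} (hA : (k : ℕ∞) ≤ LocCoh.depth A A) :
    ∀ {n : ℕ} {B : Type u} [CommRing B] [IsLocalRing B] [IsNoetherianRing B] {q : B →+* A},
    IsTower n B q → ((k + n : ℕ) : ℕ∞) ≤ LocCoh.depth B B := by
  intro n
  induction n with
  | zero =>
    intro B _ _ _ q h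
    let e := RingEquiv.ofBijective q h
    exact hA.trans (Alg6.depth_eq_of_semilinear e.toRingHom e.surjective e.toAddEquiv fun r x => map_mul e r x).ge
  | succ n ih =>
    intro B _ _ _ q h
    obtain ⟨B', _, _, _, g, q', f, rfl, hg, hker, hf, hnz, -, h'⟩ := h
    exact succ_le_depth g hg hker hf hnz (ih h')

theorem dim_le_of_gens {B : Type u} [CommRing B] [IsLocalRing B] [IsNoetherianRing B] (P : PrimeSpectrum B)
    (S : Set B) (hS : S ⊆ maximalIdeal B) {n : ℕ} (hn : S.encard ≤ n)
    (h : ∀ Q : PrimeSpectrum B, P.asIdeal ≤ Q.asIdeal → S ⊆ Q.asIdeal → Q.asIdeal = maximalIdeal B) :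
    ringKrullDim (B ⧸ P.asIdeal) ≤ n := by
  let D := B ⧸ P.asIdeal
  let π := Ideal.Quotient.mk P.asIdeal
  haveI : IsLocalRing D := IsLocalRing.of_surjective' π Ideal.Quotient.mk_surjective
  haveI := IsLocalHom.of_surjective π Ideal.Quotient.mk_surjective
  have hsub : π '' S ⊆ (Ring.jacobson D : Set D) := by
    rw [IsLocalRing.ringJacobson_eq_maximalIdeal]
    rintro _ ⟨x, hx, rfl⟩
    exact (map_mem_nonunits_iff π x).2 (hS hx)
  refine (ringKrullDim_le_ringKrullDim_quotient_add_encard (π '' S) hsub).trans ?_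
  have h0 : ringKrullDim (D ⧸ Ideal.span (π '' S)) ≤ 0 := by
    haveI : Ring.KrullDimLE 0 (D ⧸ Ideal.span (π '' S)) := by
      rw [Ring.krullDimLE_zero_iff]
      intro Q hQ
      haveI := hQ
      let mk2 := Ideal.Quotient.mk (Ideal.span (π '' S))
      let qq : PrimeSpectrum B := ⟨(Q.comap mk2).comap π, inferInstance⟩
      have hle : P.asIdeal ≤ qq.asIdeal := fun x hx => by
        show x ∈ (Q.comap mk2).comap π
        rw [Ideal.mem_comap, Ideal.mem_comap, Ideal.Quotient.eq_zero_iff_mem.2 hx, map_zero]; exact zero_mem _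
      have hS' : S ⊆ (qq.asIdeal : Set B) := fun x hx => by
        show mk2 (π x) ∈ Q
        rw [Ideal.Quotient.eq_zero_iff_mem.2 (Ideal.subset_span (Set.mem_image_of_mem π hx))]; exact zero_mem _
      have heq := h qq hle hS'
      rw [← Ideal.map_comap_of_surjective _ Ideal.Quotient.mk_surjective Q,
        ← Ideal.map_comap_of_surjective π Ideal.Quotient.mk_surjective (Q.comap (Ideal.Quotient.mk _)),
        show (Q.comap (Ideal.Quotient.mk _)).comap π = maximalIdeal B from heq, Ideal.map_map]
      refine Ideal.IsMaximal.map_of_surjective_of_ker_le (f := mk2.comp π)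
        ((Ideal.Quotient.mk_surjective (I := Ideal.span (π '' S))).comp (Ideal.Quotient.mk_surjective (I := P.asIdeal))) ?_
      exact le_maximalIdeal fun htop => hQ.ne_top ((Ideal.eq_top_iff_one Q).2 (by
        have h1 : ((Ideal.Quotient.mk (Ideal.span (π '' S))).comp π) 1 = 0 :=
          RingHom.mem_ker.1 (htop ▸ Submodule.mem_top)
        rw [map_one] at h1
        rw [h1]; exact zero_mem _))
    exact Ring.krullDimLE_iff.1 inferInstance
  calc ringKrullDim (D ⧸ Ideal.span (π '' S)) + ((π '' S).encard : WithBot ℕ∞)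
      ≤ 0 + ((n : ℕ∞) : WithBot ℕ∞) :=
        add_le_add h0 (WithBot.coe_le_coe.2 ((Set.encard_image_le π S).trans hn))
    _ = (n : WithBot ℕ∞) := by rw [zero_add]; rfl

/-- Restriction to the bottom of a tower is fully faithful on opens containing its punctured
spectrum. -/
theorem IsTower.ff [IsLocalRing A] (hA : (2 : ℕ∞) ≤ LocCoh.depth A A) :
    ∀ {n : ℕ} {B : Type u} [CommRing B] [IsLocalRing B] [IsNoetherianRing B] {q : B →+* A},
    IsTower n B q → ∀ (V : (Spec (CommRingCat.of B)).Opens),
      (∀ y : PrimeSpectrum B, RingHom.ker q ≤ y.asIdeal → y.asIdeal ≠ maximalIdeal B → y ∈ V) →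
      (FEt.restrict (pullback.fst V.ι (Spec.map (CommRingCat.ofHom q)))).Full ∧
        (FEt.restrict (pullback.fst V.ι (Spec.map (CommRingCat.ofHom q)))).Faithful := by
  intro n
  induction n with
  | zero =>
    intro B _ _ _ q h V _
    haveI : IsIso (CommRingCat.ofHom q) := (ConcreteCategory.isIso_iff_bijective _).2 h
    haveI : IsIso (pullback.fst V.ι (Spec.map (CommRingCat.ofHom q))) := inferInstance
    haveI := Pi1Rig.isEquivalence_restrict_of_isIso (pullback.fst V.ι (Spec.map (CommRingCat.ofHom q)))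
    exact ⟨inferInstance, inferInstance⟩
  | succ n ih =>
    intro B _ _ _ q h V hV
    have hdB := IsTower.le_depth (k := 2) (by exact_mod_cast hA) h
    obtain ⟨B', _, _, _, g, q', f, rfl, hg, hker, hf, hnz, hcpl, h'⟩ := h
    haveI := hcpl
    obtain ⟨S', hS', hS'k⟩ := h'.exists_gens
    haveI := IsLocalHom.of_surjective g hg
    have hkerle : RingHom.ker (q'.comp g) ≤ maximalIdeal B := le_maximalIdeal (RingHom.ker_ne_top _)
    let sg := Spec.map (CommRingCat.ofHom g)
    let V' : (Spec (CommRingCat.of B')).Opens := sg ⁻¹ᵁ V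
    have hgm : ∀ y : PrimeSpectrum B', y.asIdeal ≠ maximalIdeal B' → y.asIdeal.comap g ≠ maximalIdeal B := fun y hy e => by
      refine hy (IsLocalRing.eq_maximalIdeal ?_)
      rw [← Ideal.map_comap_of_surjective g hg y.asIdeal, e]
      exact Ideal.IsMaximal.map_of_surjective_of_ker_le hg (le_maximalIdeal (RingHom.ker_ne_top g))
    have hV' : ∀ y : PrimeSpectrum B', RingHom.ker q' ≤ y.asIdeal → y.asIdeal ≠ maximalIdeal B' → y ∈ V' :=
      fun y hy hne => hV ⟨y.asIdeal.comap g, inferInstance⟩
        (by rw [← RingHom.comap_ker]; exact Ideal.comap_mono hy) (hgm y hne)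
    obtain ⟨hF', hFa'⟩ := ih h' V' hV'
    let i : (V' : Scheme.{u}) ⟶ (V : Scheme.{u}) := sg ∣_ V
    haveI : IsClosedImmersion sg := IsClosedImmersion.spec_of_surjective _ hg
    haveI : IsClosedImmersion i := MorphismProperty.of_isPullback (P := @IsClosedImmersion)
      (isPullback_morphismRestrict sg V).flip inferInstance
    have hrg : Set.range sg = PrimeSpectrum.zeroLocus ({f} : Set B) := by
      show Set.range (PrimeSpectrum.comap g) = _
      rw [range_comap_of_surjective _ g hg, hker, PrimeSpectrum.zeroLocus_span]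
    have hi : Set.range i = {x | f ∈ (V.ι x : PrimeSpectrum B).asIdeal} := by
      ext x
      constructor
      · rintro ⟨z, rfl⟩
        have h1 : V.ι (i z) ∈ Set.range sg :=
          ⟨V'.ι z, by rw [← Scheme.Hom.comp_apply, ← Scheme.Hom.comp_apply, morphismRestrict_ι]⟩
        rw [hrg] at h1
        exact h1 rfl
      · intro hx
        obtain ⟨z, hz⟩ : V.ι x ∈ Set.range sg := hrg.ge (fun y hy => hy ▸ hx)
        have hzV : z ∈ V' := by show sg z ∈ V; rw [hz]; exact x.2
        exact ⟨⟨z, hzV⟩, Subtype.ext ((morphismRestrict_base_coe sg V ⟨z, hzV⟩).trans hz)⟩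
    obtain ⟨S, hS, hSk⟩ : ∃ S : Set B, S.encard ≤ n ∧ RingHom.ker (q'.comp g) = Ideal.span (insert f S) := by
      choose l hl using hg
      refine ⟨l '' S', (Set.encard_image_le l S').trans hS', ?_⟩
      have hgs : Function.Surjective g := fun y => ⟨l y, hl y⟩
      have h2 : (Ideal.span (l '' S')).map g = Ideal.span S' := by
        rw [Ideal.map_span, ← Set.image_comp]
        simp [Function.comp_def, hl]
      rw [← RingHom.comap_ker, hS'k, ← h2, Ideal.comap_map_of_surjective g hgs, ← RingHom.ker_eq_comap_bot, hker,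
        ← Ideal.span_union, Set.union_comm]
      rfl
    have hSm : insert f S ⊆ (maximalIdeal B : Set B) := fun x hx => hkerle (hSk ▸ Ideal.subset_span hx)
    obtain ⟨hFi, hFai⟩ := ff_step hnz i hi (fun P hfP hPV => by
      refine le_depth_atPrime P.asIdeal (a := 3) (d := n) ?_ (dim_le_of_gens P S ((Set.subset_insert f S).trans hSm) hS
        fun Q hPQ hSQ => ?_)
      · exact le_of_eq_of_le (by norm_num; ring) hdB
      by_contra hne
      exact hPV (((PrimeSpectrum.le_iff_specializes P Q).1 hPQ).mem_open V.2 (hV Q (by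
        rw [hSk, Ideal.span_le]
        exact Set.insert_subset (hPQ hfP) hSQ) hne)))
      (fun p _ hq => by
      refine le_depth_atPrime p.asIdeal (a := 2) (d := n + 1) ?_ (dim_le_of_gens p (insert f S) hSm
        ((Set.encard_insert_le S f).trans (by push_cast; exact add_le_add hS le_rfl)) fun Q hpQ hSQ => ?_)
      · exact le_of_eq_of_le (by norm_num) hdB
      by_contra hne
      exact hq Q hpQ (hSQ (Set.mem_insert f S)) (hV Q (by rw [hSk, Ideal.span_le]; exact hSQ) hne))
    let sq := Spec.map (CommRingCat.ofHom q')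
    have hsq : Spec.map (CommRingCat.ofHom (q'.comp g)) = sq ≫ sg := by
      rw [← Spec.map_comp]; rfl
    have hP : IsPullback (pullback.fst V'.ι sq ≫ i) (pullback.snd V'.ι sq) V.ι (Spec.map (CommRingCat.ofHom (q'.comp g))) := by
      rw [hsq]
      exact (IsPullback.of_hasPullback V'.ι sq).paste_horiz (isPullback_morphismRestrict sg V)
    have hfst : hP.isoPullback.inv ≫ pullback.fst V'.ι sq ≫ i =
        pullback.fst V.ι (Spec.map (CommRingCat.ofHom (q'.comp g))) := hP.isoPullback_inv_fst
    haveI := Pi1Rig.isEquivalence_restrict_of_isIso hP.isoPullback.inv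
    haveI := hF'; haveI := hFa'; haveI := hFi; haveI := hFai
    let E1 := MorphismProperty.Over.pullbackComp (P := FEt.prop) (Q := ⊤) (pullback.fst V'.ι sq) i _ rfl
    have hc1 : (FEt.restrict i ⋙ FEt.restrict (pullback.fst V'.ι sq)).Full := inferInstance
    have hc2 : (FEt.restrict i ⋙ FEt.restrict (pullback.fst V'.ι sq)).Faithful := inferInstance
    haveI : (FEt.restrict (pullback.fst V'.ι sq ≫ i)).Full := @Functor.Full.of_iso _ _ _ _ _ _ hc1 E1.symm
    haveI : (FEt.restrict (pullback.fst V'.ι sq ≫ i)).Faithful := @Functor.Faithful.of_iso _ _ _ _ _ _ hc2 E1.symm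
    let E2 := MorphismProperty.Over.pullbackComp (P := FEt.prop) (Q := ⊤) hP.isoPullback.inv (pullback.fst V'.ι sq ≫ i) _ hfst.symm
    have hd1 : (FEt.restrict (pullback.fst V'.ι sq ≫ i) ⋙ FEt.restrict hP.isoPullback.inv).Full := inferInstance
    have hd2 : (FEt.restrict (pullback.fst V'.ι sq ≫ i) ⋙ FEt.restrict hP.isoPullback.inv).Faithful := inferInstance
    exact ⟨@Functor.Full.of_iso _ _ _ _ _ _ hd1 E2.symm, @Functor.Faithful.of_iso _ _ _ _ _ _ hd2 E2.symm⟩

section PS

variable (A) [IsLocalRing A]

omit [IsLocalRing A] in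
theorem smodEq_iff {f g : PowerSeries A} {n : ℕ}
    (h : f ≡ g [SMOD (Ideal.span {(PowerSeries.X : PowerSeries A)} ^ n • ⊤ : Submodule (PowerSeries A) (PowerSeries A))])
    (m : ℕ) (hm : m < n) : PowerSeries.coeff m f = PowerSeries.coeff m g := by
  rw [SModEq.sub_mem, Ideal.smul_eq_mul, Ideal.mul_top, Ideal.span_singleton_pow, Ideal.mem_span_singleton,
    PowerSeries.X_pow_dvd_iff] at h
  have := h m hm
  rwa [map_sub, sub_eq_zero] at this

omit [IsLocalRing A] in
theorem smodEq_iff' {f g : PowerSeries A} {n : ℕ}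
    (h : ∀ m < n, PowerSeries.coeff m f = PowerSeries.coeff m g) :
    f ≡ g [SMOD (Ideal.span {(PowerSeries.X : PowerSeries A)} ^ n • ⊤ : Submodule (PowerSeries A) (PowerSeries A))] := by
  rw [SModEq.sub_mem, Ideal.smul_eq_mul, Ideal.mul_top, Ideal.span_singleton_pow, Ideal.mem_span_singleton,
    PowerSeries.X_pow_dvd_iff]
  intro m hm
  rw [map_sub, h m hm, sub_self]

omit [IsLocalRing A] in
theorem isAdicComplete_X : IsAdicComplete (Ideal.span {(PowerSeries.X : PowerSeries A)}) (PowerSeries A) where
  haus' f hf := PowerSeries.ext fun m => (smodEq_iff A (hf (m + 1)) m m.lt_succ_self).trans (by simp)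
  prec' f hf := ⟨PowerSeries.mk fun m => PowerSeries.coeff m (f (m + 1)), fun n => smodEq_iff' A fun m hm => by
    rw [PowerSeries.coeff_mk]
    exact (smodEq_iff A (hf (Nat.succ_le_of_lt hm)) m m.lt_succ_self).symm⟩
theorem isTower_mvPowerSeries [IsNoetherianRing A] :
    ∀ n : ℕ, IsTower n (MvPowerSeries (Fin n) A) MvPowerSeries.constantCoeff := by
  intro n
  induction n with
  | zero =>
    refine ⟨fun a b h => MvPowerSeries.ext fun d => ?_, fun a => ⟨MvPowerSeries.C a, MvPowerSeries.constantCoeff_C a⟩⟩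
    obtain rfl : d = 0 := Subsingleton.elim _ _
    exact h
  | succ n ih =>
    let B' := MvPowerSeries (Fin n) A
    let e := (MvPowerSeries.finSuccEquiv A n).toRingEquiv
    let g : MvPowerSeries (Fin (n + 1)) A →+* B' := (PowerSeries.constantCoeff (R := B')).comp e.toRingHom
    refine ⟨B', inferInstance, inferInstance, inferInstance, g, MvPowerSeries.constantCoeff, MvPowerSeries.X 0,
      RingHom.ext fun p => ?_, fun b => ⟨e.symm (PowerSeries.C b), by
        show PowerSeries.constantCoeff (e (e.symm (PowerSeries.C b))) = b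
        simp⟩, ?_, ?_, ?_, ?_, ih⟩
    · show MvPowerSeries.constantCoeff p = MvPowerSeries.constantCoeff (PowerSeries.constantCoeff (e p))
      rw [← PowerSeries.coeff_zero_eq_constantCoeff_apply, ← MvPowerSeries.coeff_zero_eq_constantCoeff_apply,
        ← MvPowerSeries.coeff_zero_eq_constantCoeff_apply]
      refine Eq.trans ?_ (MvPowerSeries.coeff_coeff_finSuccEquiv p).symm
      exact congrArg (fun d => MvPowerSeries.coeff d p) Finsupp.cons_zero_zero.symm
    · ext p
      rw [RingHom.mem_ker, Ideal.mem_span_singleton]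
      show PowerSeries.constantCoeff (e p) = 0 ↔ _
      rw [← PowerSeries.X_dvd_iff, ← map_dvd_iff e (a := MvPowerSeries.X 0)]
      simp [e]
    · rw [IsLocalRing.mem_maximalIdeal, mem_nonunits_iff, MvPowerSeries.isUnit_iff_constantCoeff]
      simp
    · refine mem_nonZeroDivisors_iff_right.2 fun x hx => ?_
      have h1 : e x * PowerSeries.X = 0 := by
        rw [show (PowerSeries.X : PowerSeries B') = e (MvPowerSeries.X 0) by simp [e], ← map_mul, hx, map_zero]
      exact e.injective (by rw [map_zero]; exact PowerSeries.X_mul_cancel (by rw [mul_zero, mul_comm]; exact h1))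
    · have h1 := isAdicComplete_X (A := B')
      rw [← IsAdicComplete.congr_ringEquiv (I := Ideal.span {(PowerSeries.X : PowerSeries B')}) e.symm] at h1
      rw [Ideal.map_span, Set.image_singleton] at h1
      rwa [show e.symm PowerSeries.X = (MvPowerSeries.X 0 : MvPowerSeries (Fin (n + 1)) A) from
        e.injective (by rw [RingEquiv.apply_symm_apply]; simp [e])] at h1

end PS

end Groth.Agent.Pi1PS

end
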